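import Mathlib
import Groth.Prelude.Def_Flat
import Groth.Agent.Lib.Helper5.AlgSp.FlatDescentMore

set_option autoImplicit false
set_option linter.unusedSectionVars false

universe u

open CategoryTheory CategoryTheory.Limits AlgebraicGeometry MorphismProperty Opposite Topology Order TopologicalSpace

namespace Groth.Agent.H3.EtaleDim

section Top

variable {X : Type*} [TopologicalSpace X] [QuasiSober X] [T0Space X]

attribute [local instance] specializationOrder

/-- The Krull dimension of a sober space is the supremum of the coheights of its points. -/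
lemma topologicalKrullDim_eq_iSup_coheight :
    topologicalKrullDim X = ⨆ x : X, (coheight x : WithBot ℕ∞) := by
  unfold topologicalKrullDim
  rw [krullDim_eq_of_orderIso (irreducibleSetEquivPoints (α := X)), krullDim_eq_iSup_coheight]

/-- The Krull dimension of an open subset of a sober space is the supremum of the coheights of
its points. -/
lemma topologicalKrullDim_opens_eq_iSup_coheight (W : Opens X) :
    topologicalKrullDim ↥(W : Set X) = ⨆ w : ↥(W : Set X), (coheight (w : X) : WithBot ℕ∞) := by
  have hemb : IsOpenEmbedding (Subtype.val : ↥(W : Set X) → X) := W.isOpen.isOpenEmbedding_subtypeVal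
  have : QuasiSober ↥(W : Set X) := hemb.quasiSober
  have h1 := topologicalKrullDim_eq_iSup_coheight (X := ↥(W : Set X))
  rw [h1]
  congr 1
  funext w
  have := Topology.IsOpenEmbedding.coheight_eq (x := w) Subtype.val hemb
  rw [this]

end Top


lemma lt_iff_specializes {X : Scheme.{u}} (a b : X) : a < b ↔ b ⤳ a ∧ ¬ a ⤳ b := Iff.rfl

/-- A flat, locally quasi-finite morphism is strictly monotone for the specialization order. -/
lemma strictMono_of_locallyQuasiFinite {Z U : Scheme.{u}} (g : Z ⟶ U) [LocallyQuasiFinite g] :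
    StrictMono (fun z : Z => g z) := by
  intro a b hab
  rw [lt_iff_specializes] at hab ⊢
  refine ⟨hab.1.map g.continuous, fun h => hab.2 ?_⟩
  have heq : g a = g b := (h.antisymm (hab.1.map g.continuous)).eq
  have hd := Scheme.Hom.isDiscrete_preimage_singleton g (g a)
  have := hd.eq_of_specializes hab.1 (by simp [heq]) (by simp)
  rw [this]

theorem coheight_eq_of_flat_of_locallyQuasiFinite {Z U : Scheme.{u}} (g : Z ⟶ U) [Flat g]
    [LocallyQuasiFinite g] (z : Z) : coheight (g z) = coheight z := by
  symm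
  refine coheight_eq_of_strictMono (fun z : Z => g z) (strictMono_of_locallyQuasiFinite g) ?_ z
  intro a b hab
  rw [lt_iff_specializes] at hab
  obtain ⟨a', ha', rfl⟩ := Flat.generalizingMap g hab.1
  refine ⟨a', ?_, rfl⟩
  rw [lt_iff_specializes]
  exact ⟨ha', fun h => hab.2 (h.map g.continuous)⟩

lemma locallyQuasiFinite_of_etale {Z U : Scheme.{u}} (g : Z ⟶ U) [Etale g] :
    LocallyQuasiFinite g := Groth.Agent.H5.AlgSp.locallyQuasiFinite_of_unramified g

theorem coheight_eq_of_etale {Z U : Scheme.{u}} (g : Z ⟶ U) [Etale g] (z : Z) :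
    coheight (g z) = coheight z := by
  have := locallyQuasiFinite_of_etale g
  exact coheight_eq_of_flat_of_locallyQuasiFinite g z

theorem ringKrullDim_stalk_eq_of_etale {Z U : Scheme.{u}} (g : Z ⟶ U) [Etale g] (z : Z) :
    ringKrullDim ↥(Z.presheaf.stalk z) = ringKrullDim ↥(U.presheaf.stalk (g z)) := by
  rw [ringKrullDim_stalk_eq_coheight, ringKrullDim_stalk_eq_coheight, coheight_eq_of_etale]


/-- Krull dimension of a scheme as a supremum of coheights. -/
lemma scheme_dim_eq_iSup_coheight (Z : Scheme.{u}) :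
    topologicalKrullDim ↥Z = ⨆ z : Z, (coheight z : WithBot ℕ∞) :=
  topologicalKrullDim_eq_iSup_coheight (X := ↥Z)

lemma scheme_dim_opens_eq_iSup_coheight (Z : Scheme.{u}) (W : Z.Opens) :
    topologicalKrullDim ↥(W : Set Z) = ⨆ w : ↥(W : Set Z), (coheight (w : Z) : WithBot ℕ∞) :=
  topologicalKrullDim_opens_eq_iSup_coheight (X := ↥Z) W

/-- An étale surjective morphism preserves Krull dimension. -/
theorem dim_eq_of_etale_surjective {Z U : Scheme.{u}} (g : Z ⟶ U) [Etale g] [Surjective g] :
    topologicalKrullDim ↥Z = topologicalKrullDim ↥U := by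
  rw [scheme_dim_eq_iSup_coheight, scheme_dim_eq_iSup_coheight]
  rw [← g.surjective.iSup_comp]
  congr 1
  funext z
  rw [coheight_eq_of_etale]

/-- An étale morphism does not raise Krull dimension. -/
theorem dim_le_of_etale {Z U : Scheme.{u}} (g : Z ⟶ U) [Etale g] :
    topologicalKrullDim ↥Z ≤ topologicalKrullDim ↥U := by
  rw [scheme_dim_eq_iSup_coheight, scheme_dim_eq_iSup_coheight]
  apply iSup_le
  intro z
  rw [← coheight_eq_of_etale g z]
  exact le_iSup (fun u : U => (coheight u : WithBot ℕ∞)) (g z)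

/-- Local dimension is invariant under étale morphisms. -/
theorem localDim_eq_of_etale {Z U : Scheme.{u}} (g : Z ⟶ U) [Etale g] (z : Z) :
    FlatMor.localDim ↥Z z = FlatMor.localDim ↥U (g z) := by
  unfold FlatMor.localDim
  apply le_antisymm
  · apply le_iInf
    rintro ⟨V, hV⟩
    refine (iInf_le _ (⟨g ⁻¹ᵁ V, hV⟩ : {W : Opens Z // z ∈ W})).trans ?_
    change topologicalKrullDim ↥((g ⁻¹ᵁ V : Z.Opens) : Set Z) ≤ topologicalKrullDim ↥(V : Set U)
    rw [scheme_dim_opens_eq_iSup_coheight, scheme_dim_opens_eq_iSup_coheight]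
    apply iSup_le
    rintro ⟨w, hw⟩
    rw [← coheight_eq_of_etale g w]
    exact le_iSup (fun v : ↥(V : Set U) => (coheight (v : U) : WithBot ℕ∞)) ⟨g w, hw⟩
  · apply le_iInf
    rintro ⟨W, hW⟩
    have hopen : IsOpen (g '' (W : Set Z)) := g.isOpenMap _ W.isOpen
    let V : U.Opens := ⟨g '' (W : Set Z), hopen⟩
    refine (iInf_le _ (⟨V, ⟨z, hW, rfl⟩⟩ : {V : Opens U // g z ∈ V})).trans ?_
    change topologicalKrullDim ↥(V : Set U) ≤ topologicalKrullDim ↥(W : Set Z)
    rw [scheme_dim_opens_eq_iSup_coheight, scheme_dim_opens_eq_iSup_coheight]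
    apply iSup_le
    rintro ⟨v, w, hw, rfl⟩
    rw [coheight_eq_of_etale g w]
    exact le_iSup (fun w : ↥(W : Set Z) => (coheight (w : Z) : WithBot ℕ∞)) ⟨w, hw⟩

end Groth.Agent.H3.EtaleDim
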