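import Mathlib
import Groth.Agent.Lib.Helper1.AlgSpQF
import Groth.Agent.Lib.Helper3.AlgSpMor.EtaleDim
import Groth.Agent.Lib.Helper3.TopDim

set_option autoImplicit false
set_option linter.unusedSectionVars false

universe u

open CategoryTheory CategoryTheory.Limits AlgebraicGeometry MorphismProperty Topology Order

namespace Groth.Agent.H3.Codim0QF

open Groth.Agent.H3.EtaleDim

variable {U V : Scheme.{u}}

lemma le_iff_specializes (a b : U) : a ≤ b ↔ b ⤳ a := Iff.rfl

/-- Every point of a scheme has a maximal generization. -/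
theorem exists_isMax_ge (u : U) : ∃ ξ : U, u ≤ ξ ∧ IsMax ξ := by
  have hirr : IsIrreducible (irreducibleComponent u) := isIrreducible_irreducibleComponent
  have hcl : IsClosed (irreducibleComponent u) := isClosed_irreducibleComponent
  have hgen := hirr.isGenericPoint_genericPoint_closure
  rw [hcl.closure_eq] at hgen
  refine ⟨hirr.genericPoint, ?_, ?_⟩
  · rw [le_iff_specializes]
    exact hgen.specializes mem_irreducibleComponent
  · intro b hb
    rw [le_iff_specializes] at hb ⊢
    have hsub : irreducibleComponent u ⊆ closure {b} := by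
      rw [← hgen.def]
      exact closure_minimal (Set.singleton_subset_iff.2 hb.mem_closure) isClosed_closure
    have heq := eq_irreducibleComponent (isIrreducible_singleton.closure).isPreirreducible hsub
    have hb' : b ∈ irreducibleComponent u := heq ▸ subset_closure rfl
    exact hgen.specializes hb'

/-- The inclusion of a fibre is strictly monotone for the specialization order. -/
lemma strictMono_fiberι (h : U ⟶ V) (v : V) : StrictMono (fun t : h.fiber v => h.fiberι v t) := by
  intro a b hab
  rw [lt_iff_specializes] at hab ⊢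
  refine ⟨hab.1.map (h.fiberι v).continuous, fun hh => hab.2 ?_⟩
  exact (h.fiberι v).isEmbedding.isInducing.specializes_iff.1 hh

/-- If all points of a fibre have codimension zero, the fibre dimension is at most zero at every
point of it. -/
theorem fibreDimAt_le_zero_of_coheight (h : U ⟶ V) (u : U)
    (hall : ∀ u' : U, h u' = h u → coheight u' = 0) :
    FlatMor.fibreDimAt h u ≤ ((0 : ℕ) : WithBot ℕ∞) := by
  unfold FlatMor.fibreDimAt
  refine (Groth.Agent.H3.TopDim.localDim_le_dim _).trans ?_
  rw [scheme_dim_eq_iSup_coheight]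
  refine iSup_le fun t => ?_
  have h1 : coheight t ≤ coheight (h.fiberι (h u) t) :=
    coheight_le_coheight_apply_of_strictMono _ (strictMono_fiberι h (h u)) t
  have h2 : h (h.fiberι (h u) t) = h u := by
    have : h.fiberι (h u) t ∈ Set.range (h.fiberι (h u)) := ⟨t, rfl⟩
    rw [h.range_fiberι] at this
    exact this
  rw [hall _ h2] at h1
  have : coheight t = 0 := le_antisymm h1 bot_le
  rw [this]
  rfl

/-- "Quasi-finite at the point" for a morphism of schemes. -/
abbrev QF : ∀ (U V : Scheme.{u}), (U ⟶ V) → ↥U → Prop :=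
  fun U _ h u => ∃ W : U.Opens, u ∈ W ∧ LocallyQuasiFinite (W.ι ≫ h) ∧ LocallyOfFiniteType (W.ι ≫ h)

/-- In the fibre over `h u`, a point at which `h` is quasi-finite has no proper generizations and
no proper specializations inside the fibre. -/
theorem eq_of_specializes_of_QF (h : U ⟶ V) (u b : U) (hq : QF _ _ h u) (hb : h b = h u)
    (hsp : b ⤳ u) : b = u := by
  obtain ⟨W, huW, hlqf, -⟩ := hq
  have hbW : b ∈ W := hsp.mem_open W.2 huW
  have hd := (W.ι ≫ h).isDiscrete_preimage_singleton (h u)
  have hsp' : (⟨b, hbW⟩ : ↥W) ⤳ (⟨u, huW⟩ : ↥W) := (subtype_specializes_iff _ _).2 hsp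
  have := hd.eq_of_specializes hsp' (by simp [hb]) (by simp)
  exact congrArg Subtype.val this

/-- (2) ⇒ (1): over a point of codimension zero, a point at which `h` is quasi-finite has
codimension zero. -/
theorem coheight_eq_zero_of_QF (h : U ⟶ V) (u : U) (hv : coheight (h u) = 0)
    (hq : QF _ _ h u) : coheight u = 0 := by
  rw [coheight_eq_zero] at hv ⊢
  intro b hb
  rw [le_iff_specializes] at hb
  have h1 : h u ≤ h b := hb.map h.continuous
  have h2 : h b = h u := (Specializes.antisymm (hv h1 : h u ⤳ h b) (h1 : h b ⤳ h u)).eq.symm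
  rw [eq_of_specializes_of_QF h u b hq h2 hb]

/-- (3) ⇒ (1): if `h` is quasi-finite at all codimension-zero points of the fibre over a point of
codimension zero, then all points of this fibre have codimension zero. -/
theorem coheight_eq_zero_of_forall_QF (h : U ⟶ V) [LocallyOfFiniteType h] (u : U)
    (hv : coheight (h u) = 0)
    (hyp : ∀ u' : U, h u' = h u → coheight u' = 0 → QF _ _ h u') : coheight u = 0 := by
  obtain ⟨ξ, hξu, hξ⟩ := exists_isMax_ge u
  have hξ0 : coheight ξ = 0 := coheight_eq_zero.2 hξ
  have hv' := coheight_eq_zero.1 hv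
  have h1 : h u ≤ h ξ := (show ξ ⤳ u from hξu).map h.continuous
  have hξv : h ξ = h u := (Specializes.antisymm (hv' h1 : h u ⤳ h ξ) (h1 : h ξ ⤳ h u)).eq.symm
  obtain ⟨W, hξW, hlqf, hlft⟩ := hyp ξ hξv hξ0
  -- work in the fibre over `h u`
  set v := h u with hvdef
  let F := h.fiber v
  have hξF : ξ ∈ Set.range (h.fiberι v) := by rw [h.range_fiberι]; exact hξv
  have huF : u ∈ Set.range (h.fiberι v) := by rw [h.range_fiberι]; exact rfl
  obtain ⟨tξ, htξ⟩ := hξF
  obtain ⟨tu, htu⟩ := huF
  -- `{tξ}` is open in the fibre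
  have hopen : IsOpen ({tξ} : Set F) := by
    have hd := (W.ι ≫ h).isDiscrete_preimage_singleton v
    rw [isDiscrete_iff_forall_mem_exists_isOpen] at hd
    obtain ⟨N, hN, hND⟩ := hd ⟨ξ, hξW⟩ (by
      simp only [Set.mem_preimage, Set.mem_singleton_iff, Scheme.Hom.comp_apply]
      exact hξv)
    have hN' : IsOpen (Subtype.val '' N : Set U) := W.2.isOpenMap_subtype_val _ hN
    have heq : ({tξ} : Set F) = (h.fiberι v) ⁻¹' (Subtype.val '' N) := by
      ext t
      simp only [Set.mem_singleton_iff, Set.mem_preimage, Set.mem_image]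
      constructor
      · rintro rfl
        refine ⟨⟨ξ, hξW⟩, ?_, htξ.symm⟩
        have : (⟨ξ, hξW⟩ : ↥W) ∈ N ∩ (W.ι ≫ h) ⁻¹' {v} := by rw [hND]; rfl
        exact this.1
      · rintro ⟨n, hnN, hn⟩
        have hnv : h (n : U) = v := by
          rw [hn]
          have : h.fiberι v t ∈ Set.range (h.fiberι v) := ⟨t, rfl⟩
          rw [h.range_fiberι] at this
          exact this
        have hmem : n ∈ N ∩ (W.ι ≫ h) ⁻¹' {v} := ⟨hnN, by
          simp only [Set.mem_preimage, Set.mem_singleton_iff, Scheme.Hom.comp_apply]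
          exact hnv⟩
        rw [hND] at hmem
        have hnξ : (n : U) = ξ := congrArg Subtype.val hmem
        apply (h.fiberι v).isEmbedding.injective
        rw [htξ, ← hnξ, hn]
    rw [heq]
    exact hN'.preimage (h.fiberι v).continuous
  have hclosed : IsClosed ({tξ} : Set F) :=
    isClosed_singleton_of_isLocallyClosed_singleton hopen.isLocallyClosed
  have hsp : tξ ⤳ tu := by
    rw [← (h.fiberι v).isEmbedding.isInducing.specializes_iff, htξ, htu]
    exact hξu
  have : tu = tξ := by
    have := hsp.mem_closed hclosed (Set.mem_singleton _)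
    exact this
  have hux : u = ξ := by rw [← htu, ← htξ, this]
  rw [hux]; exact hξ0

end Groth.Agent.H3.Codim0QF
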