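import Mathlib
import Groth.Agent.Lib.Helper1.AlgSpQF

set_option autoImplicit false
set_option linter.unusedSectionVars false

universe u

open CategoryTheory CategoryTheory.Limits AlgebraicGeometry MorphismProperty Topology

namespace Groth.Agent.H3.QFinFibre

open _root_.AlgSp Groth.Agent.H5.AlgSp Groth.Agent.H1.AlgSpDim

/-- Over a field, the points at which a morphism of finite type is quasi-finite are isolated, and
there are only finitely many of them. -/
theorem finite_setOf_quasiFiniteAt_field {K : Type u} [Field K] {T : Scheme.{u}}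
    (g : T ⟶ Spec (CommRingCat.of K)) [LocallyOfFiniteType g] [CompactSpace T] :
    {t : T | ∃ W : T.Opens, t ∈ W ∧ LocallyQuasiFinite (W.ι ≫ g) ∧
      LocallyOfFiniteType (W.ι ≫ g)}.Finite := by
  have hN : IsLocallyNoetherian T := LocallyOfFiniteType.isLocallyNoetherian g
  have hN' : IsNoetherian T := { }
  set E := {t : T | ∃ W : T.Opens, t ∈ W ∧ LocallyQuasiFinite (W.ι ≫ g) ∧
      LocallyOfFiniteType (W.ι ≫ g)} with hE
  have hopen : ∀ t ∈ E, IsOpen ({t} : Set T) := by
    rintro t ⟨W, htW, hq, -⟩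
    have hd : _root_.IsDiscrete ((W.ι ≫ g) ⁻¹' {(W.ι ≫ g) ⟨t, htW⟩}) :=
      (W.ι ≫ g).isDiscrete_preimage_singleton _
    have huniv : ((W.ι ≫ g) ⁻¹' {(W.ι ≫ g) ⟨t, htW⟩}) = Set.univ := by
      ext w
      simp only [Set.mem_preimage, Set.mem_singleton_iff, Set.mem_univ, iff_true]
      exact Subsingleton.elim _ _
    rw [huniv, isDiscrete_univ_iff] at hd
    have h1 : IsOpen ({⟨t, htW⟩} : Set ↥W) := @isOpen_discrete _ _ hd _
    have h2 := W.isOpenEmbedding'.isOpenMap _ h1
    simpa using h2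
  have hc : IsCompact E := TopologicalSpace.NoetherianSpace.isCompact E
  have hdisc : _root_.IsDiscrete E := by
    rw [isDiscrete_iff_forall_mem_exists_isOpen]
    intro t ht
    exact ⟨{t}, hopen t ht, by simpa using ht⟩
  exact hc.finite hdisc

variable {S : Scheme.{u}}

/-- "Quasi-finite at the point" for a morphism of schemes. -/
abbrev QF : ∀ (U V : Scheme.{u}), (U ⟶ V) → ↥U → Prop :=
  fun U _ h u => ∃ W : U.Opens, u ∈ W ∧ LocallyQuasiFinite (W.ι ≫ h) ∧ LocallyOfFiniteType (W.ι ≫ h)

/-- "Fibre dimension at most zero at the point". -/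
abbrev FD0 : ∀ (U V : Scheme.{u}), (U ⟶ V) → ↥U → Prop :=
  fun _ _ h u => FlatMor.fibreDimAt h u ≤ ((0 : ℕ) : WithBot ℕ∞)

theorem hasAtMor_QF_iff {F G : Sp S} {f : F ⟶ G} (hf : LocP @LocallyOfFiniteType f) (x : Points F) :
    HasAtMor QF f x ↔ HasAtMor FD0 f x :=
  (hasAtMor_congr (Q₁ := FD0) (Q₂ := QF) hf (fun U V h u hh => by
    have := hh
    exact fibreDimAt_le_zero_iff_exists_opens h u) x).symm

/-- A quasi-compact algebraic space locally of finite type over a field has only finitely many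
points at which it is quasi-finite over the field. -/
theorem finite_setOf_hasAtMor_field {K : Type u} [Field K] (str : Spec (CommRingCat.of K) ⟶ S)
    {P : Sp S} (hqc : IsQuasiCompactSp P) (snd : P ⟶ (yon S).obj (Over.mk str))
    (hlft : LocP @LocallyOfFiniteType snd) :
    {z : Points P | HasAtMor QF snd z}.Finite := by
  obtain ⟨U, a, hae, has, hc⟩ := hqc
  obtain ⟨h, hh⟩ := (yon S).map_surjective (a ≫ snd)
  have comm : a ≫ snd = (yon S).map h ≫ 𝟙 _ := by rw [Category.comp_id, hh]
  have hid : RepWith @Etale (𝟙 ((yon S).obj (Over.mk str))) := repWith_id _ _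
  have hl : LocallyOfFiniteType h.left := hlft a (𝟙 _) h hae hid comm
  have hc' : CompactSpace ↥U.left := hc
  have hfin := finite_setOf_quasiFiniteAt_field (K := K) (T := U.left) h.left
  refine (hfin.image (Points.ofPt a)).subset ?_
  intro z hz
  obtain ⟨u, rfl⟩ := ofPt_surjective_of_repWith has z
  refine ⟨u, ?_, rfl⟩
  have h1 : HasAtMor FD0 snd (Points.ofPt a u) := (hasAtMor_QF_iff hlft _).1 hz
  have h2 := hasAtMor_chart (etLocal_fibreDimAt_pred (fun e => e ≤ ((0 : ℕ) : WithBot ℕ∞)))
    hlft a (𝟙 _) h hae hid comm u h1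
  exact (fibreDimAt_le_zero_iff_exists_opens h.left u).1 h2

/-- For `f` of finite type and a field-valued point of the target, the fibre has only finitely
many points lying over points at which `f` is quasi-finite. -/
theorem finite_setOf_hasAtMor_fibre {X Y P : Sp S} (hX : IsAlgSpace X) (hY : IsAlgSpace Y)
    (f : X ⟶ Y) (hf : IsFiniteTypeMor f) {K : Type u} [Field K] (str : Spec (CommRingCat.of K) ⟶ S)
    (r : (yon S).obj (Over.mk str) ⟶ Y) (fst : P ⟶ X) (snd : P ⟶ (yon S).obj (Over.mk str))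
    (sq : IsPullback fst snd f r) :
    {z : Points P | HasAtMor QF f (Points.map fst z)}.Finite := by
  have hK : IsAlgSpace ((yon S).obj (Over.mk str)) := IsAlgSpace.yon_obj _
  have hP : IsAlgSpace P := isAlgSpace_pullback hY.diag hX hK sq
  have hqcK : IsQuasiCompactSp ((yon S).obj (Over.mk str)) :=
    ⟨Over.mk str, 𝟙 _, repWith_id _ _, repWith_id _ _,
      (inferInstance : CompactSpace ↥(Spec (CommRingCat.of K)))⟩
  have hqc : IsQuasiCompactSp P := hf.2 hK hqcK r fst snd sq
  have hlft : LocP @LocallyOfFiniteType snd := locP_of_isPullback etale_le_lft sq hX hY hK hf.1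
  refine (finite_setOf_hasAtMor_field str hqc snd hlft).subset ?_
  intro z hz
  have h1 : HasAtMor FD0 f (Points.map fst z) := (hasAtMor_QF_iff hf.1 _).1 hz
  have h2 := (hasAtMor_base_change
    (etLocal_fibreDimAt_pred (fun e => e ≤ ((0 : ℕ) : WithBot ℕ∞)))
    (bcLocal_fibreDimAt_pred (fun e => e ≤ ((0 : ℕ) : WithBot ℕ∞)))
    hX hY hK sq hf.1 z).2 h1
  exact (hasAtMor_QF_iff hlft _).2 h2

/-- S9995: finitely many points of a fibre at which a finite type morphism is quasi-finite. -/
theorem finite_quasiFinite_points_fibre {X Y : Sp S} (hX : IsAlgSpace X) (hY : IsAlgSpace Y)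
    (f : X ⟶ Y) (hf : IsFiniteTypeMor f) (y : Points Y) :
    {x : Points X | Points.map f x = y ∧ HasAtMor QF f x}.Finite := by
  obtain ⟨K, _, str, r, rfl⟩ := exists_fpOfHom y
  have sq := IsPullback.of_hasPullback f r
  refine ((finite_setOf_hasAtMor_fibre hX hY f hf str r _ _ sq).image
    (Points.map (pullback.fst f r))).subset ?_
  rintro x ⟨hx1, hx2⟩
  have hpt : Points.map f x = Points.map r (Points.mk (fpOfHom str (𝟙 _))) := by
    rw [hx1, map_mk_fpOfHom, Category.id_comp]
  obtain ⟨z, hz1, -⟩ := points_pullback_surjective sq x _ hpt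
  exact ⟨z, by rw [Set.mem_ofPred_eq, hz1]; exact hx2, hz1⟩

/-- S10417: finiteness of the fibre of `|X ×_Y Z| → |X| × |Z|` over `(x, z)` when `f` is of finite
type and quasi-finite at `x`. -/
theorem finite_fibre_pullback_of_quasiFiniteAt {X Y Z W : Sp S} (hX : IsAlgSpace X)
    (hY : IsAlgSpace Y) (f : X ⟶ Y) (g : Z ⟶ Y) (p : W ⟶ X) (q : W ⟶ Z)
    (hW : IsPullback p q f g) (x : Points X) (z : Points Z) (hft : IsFiniteTypeMor f)
    (hf : HasAtMor QF f x) :
    {w : Points W | Points.map p w = x ∧ Points.map q w = z}.Finite := by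
  obtain ⟨K, _, str, ζ, rfl⟩ := exists_fpOfHom z
  have sqP := IsPullback.of_hasPullback q ζ
  have big : IsPullback (pullback.fst q ζ ≫ p) (pullback.snd q ζ) f (ζ ≫ g) :=
    sqP.paste_horiz hW
  refine ((finite_setOf_hasAtMor_fibre hX hY f hft str (ζ ≫ g) _ _ big).image
    (Points.map (pullback.fst q ζ))).subset ?_
  rintro w ⟨hw1, hw2⟩
  have hpt : Points.map q w = Points.map ζ (Points.mk (fpOfHom str (𝟙 _))) := by
    rw [hw2, map_mk_fpOfHom, Category.id_comp]
  obtain ⟨t, ht1, -⟩ := points_pullback_surjective sqP w _ hpt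
  refine ⟨t, ?_, ht1⟩
  rw [Set.mem_ofPred_eq, Points.map_comp, ht1, hw1]
  exact hf

end Groth.Agent.H3.QFinFibre
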