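import Mathlib
import Groth.Agent.Lib.Helper3.AlgSpMor.EtaleDim
import Groth.Agent.Lib.Helper3.AlgSpProp.HasAt
import Groth.Agent.Lib.Helper5.AlgSp.LocPMore
import Groth.Agent.Lib.Helper5.AlgSp.EtaleMor
import Groth.Prelude.Def_AlgSpDec

set_option autoImplicit false
set_option linter.unusedSectionVars false

universe u

open CategoryTheory CategoryTheory.Limits AlgebraicGeometry MorphismProperty Opposite Topology

namespace Groth.Agent.H3.AlgSpProp

open _root_.AlgSp Groth.Agent.H5.AlgSp Groth.Agent.H3.EtaleDim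

variable {S : Scheme.{u}}

theorem etaleLocalAt_ringKrullDim_stalk (d : WithBot ℕ∞) :
    EtaleLocalAt (fun (U : Scheme.{u}) u => ringKrullDim ↥(U.presheaf.stalk u) = d) := by
  intro Z U g _ z
  change ringKrullDim ↥(Z.presheaf.stalk z) = d ↔ ringKrullDim ↥(U.presheaf.stalk (g z)) = d
  rw [ringKrullDim_stalk_eq_of_etale g z]

theorem etaleLocalAt_localDim (d : WithBot ℕ∞) :
    EtaleLocalAt (fun (U : Scheme.{u}) u => FlatMor.localDim ↥U u = d) := by
  intro Z U g _ z
  change FlatMor.localDim ↥Z z = d ↔ FlatMor.localDim ↥U (g z) = d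
  rw [localDim_eq_of_etale g z]

/-- For an étale-local pointed property, `HasAt` is invariant under étale morphisms. -/
theorem hasAt_iff_of_isEtaleMor {Q : ∀ U : Scheme.{u}, ↥U → Prop} (hQ : EtaleLocalAt Q)
    {X Y : Sp S} (hX : IsAlgSpace X) (hY : IsAlgSpace Y) (f : X ⟶ Y) (hf : IsEtaleMor f)
    (x : Points X) : HasAt Q X x ↔ HasAt Q Y (Points.map f x) := by
  constructor
  · rintro ⟨U, a, u, hae, rfl, hq⟩
    exact ⟨U, a ≫ f, u, hf a hae, (Points.map_ofPt a f u).symm, hq⟩
  · intro h
    have hall := (hasAt_iff_forall hQ hY _).1 h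
    obtain ⟨U, a, hae, has⟩ := hX.atlas
    obtain ⟨u, hu⟩ := ofPt_surjective_of_repWith has x
    refine ⟨U, a, u, hae, hu, hall U (a ≫ f) u (hf a hae) ?_⟩
    rw [← Points.map_ofPt, hu]


/-- An étale surjective morphism of algebraic spaces preserves dimension. -/
theorem dim_eq_of_isEtaleMor_of_isSurjectiveMor {X Y : Sp S} (hX : IsAlgSpace X)
    (f : X ⟶ Y) (hf : IsEtaleMor f) (hs : IsSurjectiveMor f) : AlgSp.dim X = AlgSp.dim Y := by
  unfold AlgSp.dim
  apply le_antisymm
  · apply iSup_le; intro U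
    apply iSup_le; intro a
    apply iSup_le; intro ha
    exact le_iSup_of_le U (le_iSup_of_le (a ≫ f) (le_iSup_of_le (hf a ha) le_rfl))
  · apply iSup_le; intro V
    apply iSup_le; intro b
    apply iSup_le; intro hb
    obtain ⟨U, a, h, c, hae, comm, hce, hcs, hca, hch⟩ := exists_chart_diagram hX f hb
    have het : Etale h.left := locP_etale_of_isEtaleMor hf a b h hae hb comm
    have hsurj : Surjective h.left := by
      refine ⟨fun v => ?_⟩
      obtain ⟨x, hx⟩ := hs (Points.map b (Points.ofScheme V v))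
      obtain ⟨z, -, hz⟩ := points_pullback_surjective (IsPullback.of_hasPullback f b) x
        (Points.ofScheme V v) hx
      obtain ⟨u, rfl⟩ := ofPt_surjective_of_repWith hcs z
      refine ⟨u, ?_⟩
      rw [Points.map_ofPt, hch] at hz
      have := congrArg (Points.toScheme V) hz
      rwa [Points.toScheme_ofPt, Points.toScheme_ofScheme] at this
    have hdim : topologicalKrullDim ↥U.left = topologicalKrullDim ↥V.left :=
      dim_eq_of_etale_surjective h.left
    rw [← hdim]
    exact le_iSup_of_le U (le_iSup_of_le a (le_iSup_of_le hae le_rfl))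

end Groth.Agent.H3.AlgSpProp
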