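import Mathlib
import Groth.Agent.Lib.Helper3.AlgSpMor.Codim0QF
import Groth.Agent.Lib.Helper3.AlgSpMor.SpDim
import Groth.Agent.Lib.Helper3.AlgSpMor.QFinFibre

set_option autoImplicit false
set_option linter.unusedSectionVars false

universe u

open CategoryTheory CategoryTheory.Limits AlgebraicGeometry MorphismProperty Topology Order

namespace Groth.Agent.H3.Codim0QF

open _root_.AlgSp Groth.Agent.H5.AlgSp Groth.Agent.H1.AlgSpDim Groth.Agent.H3.AlgSpProp
open Groth.Agent.H3.QFinFibre (hasAtMor_QF_iff FD0)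

variable {S : Scheme.{u}}

/-- "The local ring has dimension zero". -/
abbrev C0 : ∀ U : Scheme.{u}, ↥U → Prop := fun U u => ringKrullDim ↥(U.presheaf.stalk u) = 0

lemma c0_iff_coheight {U : Scheme.{u}} (u : U) : C0 U u ↔ coheight u = 0 := by
  change ringKrullDim ↥(U.presheaf.stalk u) = 0 ↔ _
  rw [ringKrullDim_stalk_eq_coheight]
  norm_cast

/-- A chart diagram through `x` whose target chart is a given étale chart through `f x`. -/
theorem exists_chart_through {X Y : Sp S} (hX : IsAlgSpace X) (hY : IsAlgSpace Y) (f : X ⟶ Y)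
    (x : Points X) {V : Over S} (b : (yon S).obj V ⟶ Y) (hbe : RepWith @Etale b) (v : ↥V.left)
    (hv : Points.ofPt b v = Points.map f x) :
    ∃ (U : Over S) (a : (yon S).obj U ⟶ X) (h : U ⟶ V) (u : ↥U.left), RepWith @Etale a ∧
      a ≫ f = (yon S).map h ≫ b ∧ Points.ofPt a u = x ∧ h.left u = v := by
  have sq := IsPullback.of_hasPullback f b
  have hP : IsAlgSpace (pullback f b) := isAlgSpace_pullback hY.diag hX (IsAlgSpace.yon_obj V) sq
  obtain ⟨p, hp1, hp2⟩ := points_pullback_surjective sq x (Points.ofScheme V v) (by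
    rw [← Points.ofPt_eq_map_ofScheme, hv])
  obtain ⟨U, c, hce, hcs⟩ := hP.atlas
  obtain ⟨u, rfl⟩ := ofPt_surjective_of_repWith hcs p
  obtain ⟨h, hh⟩ := (yon S).map_surjective (c ≫ pullback.snd f b)
  have hfst : RepWith @Etale (pullback.fst f b) :=
    MorphismProperty.of_isPullback (P := RepWith @Etale) sq.flip hbe
  refine ⟨U, c ≫ pullback.fst f b, h, u, (RepWith @Etale).comp_mem _ _ hce hfst, ?_, ?_, ?_⟩
  · rw [hh, Category.assoc, Category.assoc, pullback.condition]
  · rw [← Points.map_ofPt, hp1]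
  · have h2 : Points.ofPt ((yon S).map h) u = Points.ofScheme V v := by
      rw [hh, ← Points.map_ofPt, hp2]
    have h3 := congrArg (Points.toScheme V) h2
    rwa [Points.toScheme_ofPt, Points.toScheme_ofScheme] at h3

/-- S10399 -/
theorem codim_zero_iff_quasiFinite {X Y : Sp S} (hX : IsAlgSpace X) (hY : IsAlgSpace Y) (f : X ⟶ Y)
    (hf : LocP @LocallyOfFiniteType f) (y : Points Y) (hy : HasAt C0 Y y) :
    ((∀ x : Points X, Points.map f x = y → HasAt C0 X x) ↔
        (∀ x : Points X, Points.map f x = y → HasAtMor QF f x)) ∧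
      ((∀ x : Points X, Points.map f x = y → HasAt C0 X x → HasAtMor QF f x) →
        ∀ x : Points X, Points.map f x = y → HasAt C0 X x) := by
  obtain ⟨V, b, v, hbe, hbv, hv0⟩ := hy
  have hloc : EtaleLocalAt C0 := etaleLocalAt_ringKrullDim_stalk 0
  have hetl := etLocal_fibreDimAt_pred (fun e => e ≤ ((0 : ℕ) : WithBot ℕ∞))
  refine ⟨⟨fun h1 x hx => ?_, fun h2 x hx => ?_⟩, fun h3 x hx => ?_⟩
  · obtain ⟨U, a, h, u, hae, comm, hu, huv⟩ := exists_chart_through hX hY f x b hbe v (by rw [hbv, hx])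
    have hl : LocallyOfFiniteType h.left := hf a b h hae hbe comm
    refine ⟨U, V, a, b, h, u, hae, hbe, comm, hu, ?_⟩
    refine (fibreDimAt_le_zero_iff_exists_opens h.left u).1 ?_
    refine fibreDimAt_le_zero_of_coheight h.left u fun u' hu' => ?_
    rw [← c0_iff_coheight]
    have hx' : Points.map f (Points.ofPt a u') = y := by
      rw [Points.map_ofPt, comm, ofPt_yon_map_comp, hu', huv, hbv]
    exact (hasAt_iff_forall hloc hX _).1 (h1 _ hx') U a u' hae rfl
  · obtain ⟨U, a, h, u, hae, comm, hu, huv⟩ := exists_chart_through hX hY f x b hbe v (by rw [hbv, hx])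
    have hl : LocallyOfFiniteType h.left := hf a b h hae hbe comm
    refine ⟨U, a, u, hae, hu, ?_⟩
    rw [c0_iff_coheight]
    refine coheight_eq_zero_of_QF h.left u ?_ ?_
    · rw [huv, ← c0_iff_coheight]; exact hv0
    · have hq : HasAtMor FD0 f (Points.ofPt a u) := (hasAtMor_QF_iff hf _).1 (hu ▸ h2 x hx)
      exact (fibreDimAt_le_zero_iff_exists_opens h.left u).1
        (hasAtMor_chart hetl hf a b h hae hbe comm u hq)
  · obtain ⟨U, a, h, u, hae, comm, hu, huv⟩ := exists_chart_through hX hY f x b hbe v (by rw [hbv, hx])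
    have hl : LocallyOfFiniteType h.left := hf a b h hae hbe comm
    refine ⟨U, a, u, hae, hu, ?_⟩
    rw [c0_iff_coheight]
    refine coheight_eq_zero_of_forall_QF h.left u ?_ fun u' hu' hu'0 => ?_
    · rw [huv, ← c0_iff_coheight]; exact hv0
    · have hx' : Points.map f (Points.ofPt a u') = y := by
        rw [Points.map_ofPt, comm, ofPt_yon_map_comp, hu', huv, hbv]
      have hc : HasAt C0 X (Points.ofPt a u') := ⟨U, a, u', hae, rfl, (c0_iff_coheight u').2 hu'0⟩
      have hq : HasAtMor FD0 f (Points.ofPt a u') := (hasAtMor_QF_iff hf _).1 (h3 _ hx' hc)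
      exact (fibreDimAt_le_zero_iff_exists_opens h.left u').1
        (hasAtMor_chart hetl hf a b h hae hbe comm u' hq)

end Groth.Agent.H3.Codim0QF
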