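import Mathlib
import Groth.Agent.Lib.Helper3.AlgSpMor.Codim0QFSp
import Groth.Agent.Lib.Helper1.DimIneqE
import Groth.Agent.Lib.Helper1.DimIneqF
import Groth.Agent.Lib.Helper1.DimFormula2
import Groth.Agent.Lib.Helper1.DimFormula3
import Groth.Agent.Lib.Helper1.AlgFibFin
import Groth.Agent.Lib.Helper1.AlgSpFibDim
import Groth.Agent.Lib.Helper1.AlgSpDim2
import Groth.Agent.Lib.Helper1.AlgSpQF

/-!
# Quasi-finiteness over points of codimension at most one (helper3)
-/

set_option autoImplicit false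
set_option linter.unusedSectionVars false

universe u

open CategoryTheory CategoryTheory.Limits AlgebraicGeometry MorphismProperty Topology Order TopologicalSpace

namespace Groth.Agent.H3.Codim1QF

section Arith

lemma enat_eq_zero_of_add_le_one {a : WithBot ℕ∞} {b : ℕ∞} (ha : 0 ≤ a) (hne : a ≠ 0)
    (h : a + (b : WithBot ℕ∞) ≤ 1) : b = 0 := by
  induction a with
  | bot => simp at ha
  | coe a =>
    have h' : a + b ≤ 1 := by exact_mod_cast h
    have ha1 : 1 ≤ a := Order.one_le_iff_ne_zero.2 (by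
      intro h0; apply hne; rw [h0]; rfl)
    by_contra hb
    have hb1 : 1 ≤ b := Order.one_le_iff_ne_zero.2 hb
    have : (1 : ℕ∞) + 1 ≤ 1 := (add_le_add ha1 hb1).trans h'
    exact absurd this (by decide)

lemma le_one_of_add_le_one {a : WithBot ℕ∞} {b : ℕ∞} (h : a + (b : WithBot ℕ∞) ≤ 1) : a ≤ 1 := by
  refine le_trans ?_ h
  exact le_add_of_nonneg_right (by exact_mod_cast (zero_le : (0 : ℕ∞) ≤ b))

lemma eq_zero_of_lt_one {a : WithBot ℕ∞} (ha : 0 ≤ a) (h : a < 1) : a = 0 := by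
  induction a with
  | bot => simp at ha
  | coe a =>
    have h' : a < 1 := by exact_mod_cast h
    have : a = 0 := Order.lt_one_iff.1 h'
    rw [this]; rfl

lemma natCast_eq_zero_of_add_le_zero {a : WithBot ℕ∞} {t : ℕ} (ha : 0 ≤ a)
    (h : a + (t : WithBot ℕ∞) ≤ ((0 : ℕ) : WithBot ℕ∞)) : t = 0 := by
  induction a with
  | bot => simp at ha
  | coe a =>
    have h' : a + (t : ℕ∞) ≤ 0 := by exact_mod_cast h
    have h2 : (t : ℕ∞) ≤ 0 := le_trans le_add_self h'
    have h3 : (t : ℕ∞) = 0 := le_antisymm h2 zero_le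
    exact_mod_cast h3

end Arith

section Sch

variable {U V : Scheme.{u}}

lemma stalk_dim_nonneg (u : U) : 0 ≤ ringKrullDim ↥(U.presheaf.stalk u) :=
  ringKrullDim_nonneg_of_nontrivial

/-- **Scheme-level key lemma.** -/
theorem fibreDimAt_le_zero_of_codim_le_one (h : U ⟶ V) [LocallyOfFiniteType h]
    [IsLocallyNoetherian V] (v : V) (hv : ringKrullDim ↥(V.presheaf.stalk v) ≤ 1)
    (hyp : ∀ ξ : U, ringKrullDim ↥(U.presheaf.stalk ξ) = 0 → h ξ ⤳ v → Dual3.resTrdeg h ξ = 0)
    (u : U) (hu : h u = v) : FlatMor.fibreDimAt h u ≤ ((0 : ℕ) : WithBot ℕ∞) := by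
  subst hu
  have hN : IsLocallyNoetherian U := LocallyOfFiniteType.isLocallyNoetherian h
  have hI : ∀ u' : U, h u' = h u → ringKrullDim ↥(U.presheaf.stalk u') +
      ((Cardinal.toENat (Dual3.resTrdeg h u') : ℕ∞) : WithBot ℕ∞) ≤ 1 := by
    intro u' hu'
    have key := Groth.Agent.H1.DimIneq.stalk_dim_add_resTrdeg_le h u' 0 (by
      intro ξ hξ hdim
      rw [hyp ξ hdim (hu' ▸ hξ.map h.continuous)])
    have hv' : ringKrullDim ↥(V.presheaf.stalk (h u')) ≤ 1 := by rw [hu']; exact hv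
    refine key.trans ?_
    simpa using hv'
  have hA : Dual3.resTrdeg h u = 0 := by
    by_cases h0 : ringKrullDim ↥(U.presheaf.stalk u) = 0
    · exact hyp u h0 specializes_rfl
    · have := enat_eq_zero_of_add_le_one (stalk_dim_nonneg u) h0 (hI u rfl)
      exact Cardinal.toENat_eq_zero.1 this
  have hB : ∀ x' : U, h x' = h u → x' ⤳ u → x' = u := by
    intro x' hx' hsp
    by_contra hne
    have hlt := Groth.Agent.H1.DimFormula.ringKrullDim_stalk_lt_of_specializes hsp hne
    have hle : ringKrullDim ↥(U.presheaf.stalk u) ≤ 1 := le_one_of_add_le_one (hI u rfl)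
    have h0 : ringKrullDim ↥(U.presheaf.stalk x') = 0 :=
      eq_zero_of_lt_one (stalk_dim_nonneg x') (hlt.trans_le hle)
    have ht : Dual3.resTrdeg h x' = 0 := hyp x' h0 (by rw [hx'])
    have hcl := Groth.Agent.H1.AlgFibFin.isClosed_singleton_fiberHomeo_symm h (h u) x' hx' ht
    have hsp' : (⟨x', hx'⟩ : ↥(h ⁻¹' {h u})) ⤳ ⟨u, rfl⟩ := (subtype_specializes_iff _ _).2 hsp
    have hsp'' := hsp'.map (h.fiberHomeo (h u)).symm.continuous
    have hmem := hsp''.mem_closed hcl rfl
    have heq := (h.fiberHomeo (h u)).symm.injective (Set.mem_singleton_iff.1 hmem)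
    exact hne (congrArg Subtype.val heq).symm
  obtain ⟨t, ht, hdim⟩ := Groth.Agent.H1.DimFormula.fibreDimAt_eq_trdeg_of_generic h u hB
  have ht0 : (t : Cardinal.{u}) = 0 := ht.symm.trans hA
  have : t = 0 := by exact_mod_cast ht0
  rw [hdim, this]

/-- quasi-finiteness at a point forces residue transcendence degree zero. -/
theorem resTrdeg_eq_zero_of_fibreDimAt_le_zero (h : U ⟶ V) [LocallyOfFiniteType h] (u : U)
    (h0 : FlatMor.fibreDimAt h u ≤ ((0 : ℕ) : WithBot ℕ∞)) : Dual3.resTrdeg h u = 0 := by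
  obtain ⟨t, ht, hdim⟩ := Groth.Agent.H1.DimFormula.exists_fibreDimAt_eq_stalk_add_trdeg h u
  rw [hdim] at h0
  have : t = 0 := natCast_eq_zero_of_add_le_zero ringKrullDim_nonneg_of_nontrivial h0
  subst this
  exact ht.trans (by simp)

/-- In a Noetherian sober space a dense open set contains all maximal points. -/
theorem mem_of_dense_open_of_isMax {T : Type*} [TopologicalSpace T] [NoetherianSpace T]
    [QuasiSober T] (D : Set T) (hDo : IsOpen D) (hDd : Dense D) (ξ : T)
    (hξ : ∀ η : T, η ⤳ ξ → η = ξ) : ξ ∈ D := by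
  have hfin : (irreducibleComponents T).Finite := NoetherianSpace.finite_irreducibleComponents
  set C := {Z ∈ irreducibleComponents T | ξ ∉ Z} with hC
  have hCfin : C.Finite := hfin.subset (fun Z hZ => hZ.1)
  set N : Set T := ⋂ Z ∈ C, Zᶜ with hNdef
  have hNo : IsOpen N := hCfin.isOpen_biInter (fun Z hZ =>
    (isClosed_of_mem_irreducibleComponents Z hZ.1).isOpen_compl)
  have hξN : ξ ∈ N := by
    simp only [hNdef, Set.mem_iInter]
    intro Z hZ
    exact hZ.2
  obtain ⟨d, hdN, hdD⟩ := hDd.inter_open_nonempty N hNo ⟨ξ, hξN⟩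
  have hZ := irreducibleComponent_mem_irreducibleComponents d
  have hξZ : ξ ∈ irreducibleComponent d := by
    by_contra hcon
    have : d ∈ (irreducibleComponent d)ᶜ := by
      simp only [hNdef, Set.mem_iInter] at hdN
      exact hdN _ ⟨hZ, hcon⟩
    exact this mem_irreducibleComponent
  have hirr : IsIrreducible (irreducibleComponent d) := isIrreducible_irreducibleComponent
  have hcl : IsClosed (irreducibleComponent d) := isClosed_irreducibleComponent
  have hgen := hirr.isGenericPoint_genericPoint_closure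
  rw [hcl.closure_eq] at hgen
  have h1 : hirr.genericPoint ⤳ ξ := hgen.specializes hξZ
  have h2 := hξ _ h1
  have h3 : ξ ⤳ d := by
    rw [← h2]
    exact hgen.specializes mem_irreducibleComponent
  exact h3.mem_open hDo hdD

/-- In a locally Noetherian scheme a dense open set contains all points of codimension zero. -/
theorem mem_of_dense_open_of_stalk_dim_eq_zero [IsLocallyNoetherian U] (D : Set U)
    (hDo : IsOpen D) (hDd : Dense D) (ξ : U) (hξ : ringKrullDim ↥(U.presheaf.stalk ξ) = 0) :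
    ξ ∈ D := by
  obtain ⟨W, hW, hξW⟩ : ∃ W : U.Opens, IsAffineOpen W ∧ ξ ∈ W := by
    obtain ⟨_, ⟨W, hW, rfl⟩, hz, -⟩ :=
      U.isBasis_affineOpens.exists_subset_of_mem_open (Set.mem_univ ξ) isOpen_univ
    exact ⟨W, hW, hz⟩
  have : IsNoetherianRing Γ(U, W) := IsLocallyNoetherian.component_noetherian ⟨W, hW⟩
  have : NoetherianSpace ↥W := by
    have e := hW.isoSpec.hom.homeomorph
    exact (noetherianSpace_iff_of_homeomorph
      (AlgebraicGeometry.Scheme.homeoOfIso hW.isoSpec)).2 inferInstance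
  have : QuasiSober ↥W := inferInstanceAs (QuasiSober ↥(W : Scheme.{u}))
  have := mem_of_dense_open_of_isMax (T := ↥W) (Subtype.val ⁻¹' D) (hDo.preimage continuous_subtype_val)
    (hDd.preimage W.2.isOpenMap_subtype_val) ⟨ξ, hξW⟩ (by
      intro η hη
      have h1 : (η : U) ⤳ ξ := (subtype_specializes_iff _ _).1 hη
      exact Subtype.ext (Groth.Agent.H1.DimIneq.eq_of_specializes_of_stalk_dim_eq_zero ξ η hξ h1))
  exact this

end Sch

section Sp

open _root_.AlgSp Groth.Agent.H5.AlgSp Groth.Agent.H1.AlgSpDim Groth.Agent.H3.AlgSpProp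
open Groth.Agent.H3.Codim0QF
open Groth.Agent.H3.QFinFibre (hasAtMor_QF_iff FD0)

variable {S : Scheme.{u}}

/-- "residue transcendence degree zero". -/
abbrev T0 : ∀ (U V : Scheme.{u}), (U ⟶ V) → ↥U → Prop := fun _ _ h u => Dual3.resTrdeg h u = 0

/-- "the local ring has dimension at most one". -/
abbrev C1 : ∀ U : Scheme.{u}, ↥U → Prop := fun U u => ringKrullDim ↥(U.presheaf.stalk u) ≤ 1

theorem hasAtMor_T0_of_QF {X Y : Sp S} {f : X ⟶ Y} (hf : LocP @LocallyOfFiniteType f)
    (x : Points X) (h : HasAtMor QF f x) : HasAtMor T0 f x := by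
  obtain ⟨U, V, a, b, g, u, ha, hb, comm, hu, hq⟩ := h
  have : LocallyOfFiniteType g.left := hf a b g ha hb comm
  refine ⟨U, V, a, b, g, u, ha, hb, comm, hu, ?_⟩
  exact resTrdeg_eq_zero_of_fibreDimAt_le_zero g.left u
    ((fibreDimAt_le_zero_iff_exists_opens g.left u).2 hq)

/-- **S10455.** -/
theorem quasiFinite_of_codim_le_one {X Y : Sp S} (hX : IsAlgSpace X) (hY : IsAlgSpace Y)
    (f : X ⟶ Y) (hf : LocP @LocallyOfFiniteType f) (hYn : IsLocNoethSp Y) (y : Points Y)
    (hy : HasAt C1 Y y)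
    (h : ∀ x : Points X, HasAt C0 X x → Points.map f x ⤳ y → HasAtMor T0 f x)
    (x : Points X) (hx : Points.map f x = y) : HasAtMor QF f x := by
  obtain ⟨V, b, hbe, hbs, hVn⟩ := hYn
  obtain ⟨v, hv⟩ := ofPt_surjective_of_repWith hbs y
  have hv1 : ringKrullDim ↥(V.left.presheaf.stalk v) ≤ 1 :=
    hasAt_chart (etLocalPt_stalkDim_pred (fun d => d ≤ 1)) b hbe v (hv ▸ hy)
  obtain ⟨U, a, g, u, hae, comm, hu, huv⟩ :=
    exists_chart_through hX hY f x b hbe v (by rw [hv, hx])
  have : LocallyOfFiniteType g.left := hf a b g hae hbe comm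
  have : IsLocallyNoetherian V.left := hVn
  refine ⟨U, V, a, b, g, u, hae, hbe, comm, hu, ?_⟩
  refine (fibreDimAt_le_zero_iff_exists_opens g.left u).1 ?_
  refine fibreDimAt_le_zero_of_codim_le_one g.left v hv1 (fun ξ hξ0 hξv => ?_) u huv
  have hpt : Points.map f (Points.ofPt a ξ) = Points.ofPt b (g.left ξ) :=
    map_ofPt_chart a b g comm ξ
  have hsp : Points.map f (Points.ofPt a ξ) ⤳ y := by
    rw [hpt, ← hv]
    exact hξv.map (Points.continuous_ofPt b)
  exact hasAtMor_chart (etLocal_resTrdeg_eq 0) hf a b g hae hbe comm ξ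
    (h _ ⟨U, a, ξ, hae, rfl, hξ0⟩ hsp)

/-- **S10503.** -/
theorem quasiFinite_of_codim_le_one_of_QF {X Y : Sp S} (hX : IsAlgSpace X) (hY : IsAlgSpace Y)
    (f : X ⟶ Y) (hf : LocP @LocallyOfFiniteType f) (hYn : IsLocNoethSp Y) (y : Points Y)
    (hy : HasAt C1 Y y)
    (h : ∀ x : Points X, HasAt C0 X x → HasAtMor QF f x)
    (x : Points X) (hx : Points.map f x = y) : HasAtMor QF f x :=
  quasiFinite_of_codim_le_one hX hY f hf hYn y hy
    (fun ξ hξ _ => hasAtMor_T0_of_QF hf ξ (h ξ hξ)) x hx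

/-- **S10456.** -/
theorem quasiFinite_of_codim_le_one_of_dense {X Y : Sp S} (hX : IsAlgSpace X) (hY : IsAlgSpace Y)
    (f : X ⟶ Y) (hf : LocP @LocallyOfFiniteType f) (hYn : IsLocNoethSp Y) (y : Points Y)
    (hy : HasAt C1 Y y)
    (h : Dense {x : Points X | HasAtMor QF f x})
    (x : Points X) (hx : Points.map f x = y) : HasAtMor QF f x := by
  refine quasiFinite_of_codim_le_one_of_QF hX hY f hf hYn y hy (fun ξ₀ hξ₀ => ?_) x hx
  obtain ⟨V, b, hbe, hbs, hVn⟩ := hYn
  obtain ⟨v, hv⟩ := ofPt_surjective_of_repWith hbs (Points.map f ξ₀)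
  obtain ⟨U, a, g, u, hae, comm, hu, huv⟩ := exists_chart_through hX hY f ξ₀ b hbe v hv
  have : LocallyOfFiniteType g.left := hf a b g hae hbe comm
  have : IsLocallyNoetherian V.left := hVn
  have : IsLocallyNoetherian U.left := LocallyOfFiniteType.isLocallyNoetherian g.left
  have hu0 : ringKrullDim ↥(U.left.presheaf.stalk u) = 0 :=
    hasAt_chart (etLocalPt_stalkDim_pred (fun d => d = 0)) a hae u (hu ▸ hξ₀)
  have hetl := etLocal_fibreDimAt_pred (fun e => e ≤ ((0 : ℕ) : WithBot ℕ∞))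
  set D : Set ↥U.left := {z | FlatMor.fibreDimAt g.left z ≤ ((0 : ℕ) : WithBot ℕ∞)} with hD
  have hDo : IsOpen D := Groth.Agent.H1.Chev.isOpen_fibreDimAt_le g.left 0
  have hDeq : D = Points.ofPt a ⁻¹' {x : Points X | HasAtMor QF f x} := by
    ext z
    constructor
    · intro hz
      exact ⟨U, V, a, b, g, z, hae, hbe, comm, rfl,
        (fibreDimAt_le_zero_iff_exists_opens g.left z).1 hz⟩
    · intro hz
      have hq : HasAtMor FD0 f (Points.ofPt a z) := (hasAtMor_QF_iff hf _).1 hz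
      exact hasAtMor_chart hetl hf a b g hae hbe comm z hq
  have hDd : Dense D := by
    rw [hDeq]
    exact h.preimage (isOpenMap_ofPt_of_etale hae)
  have hmem : u ∈ D := mem_of_dense_open_of_stalk_dim_eq_zero D hDo hDd u hu0
  exact ⟨U, V, a, b, g, u, hae, hbe, comm, hu,
    (fibreDimAt_le_zero_iff_exists_opens g.left u).1 hmem⟩

end Sp

end Groth.Agent.H3.Codim1QF
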