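import Mathlib
import Groth.Agent.Lib.Helper3.AlgSpMor.SpDim
import Groth.Agent.Lib.Helper5.AlgSp.LocPMore

set_option autoImplicit false
set_option linter.unusedSectionVars false

universe u

open CategoryTheory CategoryTheory.Limits AlgebraicGeometry MorphismProperty Opposite Topology Order

namespace Groth.Agent.H3.AlgSpProp

open _root_.AlgSp Groth.Agent.H5.AlgSp Groth.Agent.H3.EtaleDim

variable {S : Scheme.{u}}

/-- A flat morphism of schemes maps points of codimension zero to points of codimension zero. -/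
theorem coheight_eq_zero_of_flat {Z U : Scheme.{u}} (g : Z ⟶ U) [Flat g] (z : Z)
    (hz : coheight z = 0) : coheight (g z) = 0 := by
  rw [coheight_eq_zero] at hz ⊢
  intro b hb
  -- `g z ≤ b` : `b ⤳ g z`
  obtain ⟨a', ha', rfl⟩ := Flat.generalizingMap g (show b ⤳ g z from hb)
  have h1 : a' ≤ z := hz (show z ≤ a' from ha')
  exact (show z ⤳ a' from h1).map g.continuous

theorem hasAt_codim_zero_of_flat {X Y : Sp S} (hX : IsAlgSpace X) (hY : IsAlgSpace Y) (f : X ⟶ Y)
    (hf : LocP @Flat f) (x : Points X)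
    (hx : HasAt (fun U u => ringKrullDim ↥(U.presheaf.stalk u) = 0) X x) :
    HasAt (fun U u => ringKrullDim ↥(U.presheaf.stalk u) = 0) Y (Points.map f x) := by
  have hall := (hasAt_iff_forall (etaleLocalAt_ringKrullDim_stalk 0) hX x).1 hx
  obtain ⟨V, b, hbe, hbs⟩ := hY.atlas
  obtain ⟨U, a, h, c, hae, comm, hce, hcs, hca, hch⟩ := exists_chart_diagram hX f hbe
  -- a point of `U` over `x`: first a point of the pullback
  obtain ⟨v, hv⟩ := ofPt_surjective_of_repWith hbs (Points.map f x)
  obtain ⟨z, hz1, hz2⟩ := points_pullback_surjective (IsPullback.of_hasPullback f b) x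
    (Points.ofScheme V v) (by rw [← Points.ofPt_eq_map_ofScheme, hv])
  obtain ⟨u, rfl⟩ := ofPt_surjective_of_repWith hcs z
  have hux : Points.ofPt a u = x := by
    rw [← hca, ← Points.map_ofPt, hz1]
  have hflat : Flat h.left := hf a b h hae hbe comm
  have h0 : ringKrullDim ↥(U.left.presheaf.stalk u) = 0 := hall U a u hae hux
  refine ⟨V, b, h.left u, hbe, ?_, ?_⟩
  · rw [← ofPt_yon_map_comp, ← comm, ← Points.map_ofPt, hux]
  · change ringKrullDim ↥(V.left.presheaf.stalk (h.left u)) = 0
    rw [ringKrullDim_stalk_eq_coheight] at h0 ⊢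
    have h0' : coheight u = 0 := by exact_mod_cast h0
    rw [coheight_eq_zero_of_flat h.left u h0']
    rfl

end Groth.Agent.H3.AlgSpProp
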