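import Mathlib
import Groth.Agent.Lib.Helper3.AlgSpProp.ImageOpen
import Groth.Agent.Lib.Helper5.AlgSp.OpenImmCrit
import Groth.Agent.Lib.Helper5.AlgSp.Cover
import Groth.Agent.Lib.Helper5.AlgSp.DiagPres
import Groth.Agent.Lib.Helper5.AlgSp.UnivInj
import Groth.Agent.Lib.Helper5.AlgSp.MonoDesc

set_option autoImplicit false
set_option linter.unusedSectionVars false

universe u

open CategoryTheory CategoryTheory.Limits AlgebraicGeometry MorphismProperty Opposite Topology

namespace Groth.Agent.H3.AlgSpProp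

open _root_.AlgSp Groth.Agent.H5.AlgSp

variable {S : Scheme.{u}} {F' F : Sp S}

/-- An étale monomorphism from an algebraic space is an open immersion. -/
theorem repWith_isOpenImmersion_of_mono_of_isEtaleMor (hF' : IsAlgSpace F') (φ : F' ⟶ F) [Mono φ]
    (hφ : IsEtaleMor φ) : RepWith @IsOpenImmersion φ := by
  obtain ⟨U, a, hae, has⟩ := hF'.atlas
  have hg : RepWith @Etale (a ≫ φ) := hφ a hae
  have hrange : Set.range (Points.map φ) = Set.range (Points.ofPt (a ≫ φ)) := by
    ext x
    constructor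
    · rintro ⟨z, rfl⟩
      obtain ⟨t, rfl⟩ := ofPt_surjective_of_repWith has z
      exact ⟨t, (Points.map_ofPt _ _ _).symm⟩
    · rintro ⟨t, rfl⟩
      exact ⟨Points.ofPt a t, Points.map_ofPt _ _ _⟩
  have hW : IsOpen (Set.range (Points.map φ)) := by
    rw [hrange]
    exact isOpen_range_ofPt hg
  refine repWith_isOpenImmersion_of_mono_of_isOpen_range φ hW ?_
  intro T ξ hξ
  obtain ⟨y, hy, hye, hys⟩ := exists_factor_image hg
  have hξ' : ∀ t, Points.ofPt ξ t ∈ Set.range (Points.ofPt (a ≫ φ)) := by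
    intro t
    rw [← hrange]
    exact hξ t
  obtain ⟨ξ', hξ'eq⟩ := (factors_openSubι_iff F _ ξ).2 hξ'
  have : Sheaf.IsLocallySurjective y := isLocallySurjective_of_etale_surjective y hye hys
  refine (J S).superset_covering ?_ (liftSieve_mem y ξ')
  rintro T' g ⟨τ, hτ⟩
  refine ⟨τ ≫ a, ?_⟩
  rw [Category.assoc, ← hy, ← Category.assoc, hτ, Category.assoc, hξ'eq]


/-- An étale morphism from an algebraic space which is injective on field-valued points is a
monomorphism. -/
theorem mono_of_isEtaleMor_of_injOnFieldPoints {X Y : Sp S} (hX : IsAlgSpace X) (f : X ⟶ Y)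
    (hf : IsEtaleMor f) (hinj : InjOnFieldPoints f) : Mono f := by
  obtain ⟨U, a, hae, has⟩ := hX.atlas
  have hg : RepWith @Etale (a ≫ f) := hf a hae
  have sqR := hae.rep.isPullback a
  have sqP := hg.rep.isPullback (a ≫ f)
  have hsR : Etale (hae.rep.snd a).left := hae.property_snd a
  have hsP : Etale (hg.rep.snd (a ≫ f)).left := hg.property_snd (a ≫ f)
  -- the comparison map
  let j : (yon S).obj (hae.rep.pullback a) ⟶ (yon S).obj (hg.rep.pullback (a ≫ f)) :=
    sqP.lift (hae.rep.fst a) ((yon S).map (hae.rep.snd a)) (by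
      rw [← Category.assoc, sqR.w, Category.assoc])
  have hj1 : j ≫ hg.rep.fst (a ≫ f) = hae.rep.fst a := sqP.lift_fst _ _ _
  have hj2 : j ≫ (yon S).map (hg.rep.snd (a ≫ f)) = (yon S).map (hae.rep.snd a) :=
    sqP.lift_snd _ _ _
  obtain ⟨j₀, hj₀⟩ := (yon S).map_surjective j
  have hj₀snd : j₀ ≫ hg.rep.snd (a ≫ f) = hae.rep.snd a := by
    apply (yon S).map_injective
    rw [Functor.map_comp, hj₀]
    exact hj2
  have hjmono : Mono j := by
    refine ⟨fun {Z} b c hbc => ?_⟩
    apply sqR.hom_ext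
    · rw [← hj1, ← Category.assoc, hbc, Category.assoc]
    · rw [← hj2, ← Category.assoc, hbc, Category.assoc]
  have hj₀mono : Mono j₀ := by
    have : Mono ((yon S).map j₀) := by rw [hj₀]; exact hjmono
    exact (yon S).mono_of_mono_map this
  have hj₀left_mono : Mono j₀.left := inferInstance
  have hj₀et : Etale j₀.left := by
    have h1 : j₀.left ≫ (hg.rep.snd (a ≫ f)).left = (hae.rep.snd a).left := by
      rw [← Over.comp_left, hj₀snd]
    have : Etale (j₀.left ≫ (hg.rep.snd (a ≫ f)).left) := by rw [h1]; exact hsR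
    exact Etale.of_comp j₀.left (hg.rep.snd (a ≫ f)).left
  have hopen : IsOpenImmersion j₀.left := IsOpenImmersion.of_flat_of_mono j₀.left
  have hsurj : Surjective j₀.left := by
    refine ⟨fun p => ?_⟩
    let P := hg.rep.pullback (a ≫ f)
    let K : Type u := ↑(P.left.residueField p)
    let str : Spec (CommRingCat.of K) ⟶ S := P.left.fromSpecResidueField p ≫ P.hom
    let t : Over.mk str ⟶ P := Over.homMk (P.left.fromSpecResidueField p) rfl
    let u₁ : (yon S).obj (Over.mk str) ⟶ (yon S).obj U := (yon S).map t ≫ hg.rep.fst (a ≫ f)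
    let u₂ : (yon S).obj (Over.mk str) ⟶ (yon S).obj U :=
      (yon S).map t ≫ (yon S).map (hg.rep.snd (a ≫ f))
    have h12 : (u₁ ≫ a) ≫ f = (u₂ ≫ a) ≫ f := by
      simp only [u₁, u₂, Category.assoc]
      rw [sqP.w]
    have h12' : u₁ ≫ a = u₂ ≫ a := hinj K str h12
    let r : (yon S).obj (Over.mk str) ⟶ (yon S).obj (hae.rep.pullback a) := sqR.lift u₁ u₂ h12'
    have hr : r ≫ j = (yon S).map t := by
      apply sqP.hom_ext
      · rw [Category.assoc, hj1]; exact sqR.lift_fst _ _ _
      · rw [Category.assoc, hj2]; exact sqR.lift_snd _ _ _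
    obtain ⟨r₀, hr₀⟩ := (yon S).map_surjective r
    have hr₀' : r₀ ≫ j₀ = t := by
      apply (yon S).map_injective
      rw [Functor.map_comp, hr₀, hj₀, hr]
    refine ⟨r₀.left (IsLocalRing.closedPoint K), ?_⟩
    have := congrArg (fun m => m.left (IsLocalRing.closedPoint K)) hr₀'
    refine this.trans ?_
    exact Scheme.fromSpecResidueField_apply _ _
  have hiso : IsIso j₀.left := (isIso_iff_isOpenImmersion_and_surjective j₀.left).2 ⟨hopen, hsurj⟩
  have hj₀iso : IsIso j₀ := by
    have : IsIso ((Over.forget S).map j₀) := hiso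
    exact isIso_of_reflects_iso j₀ (Over.forget S)
  have hjiso : IsIso j := by rw [← hj₀]; infer_instance
  apply mono_of_yon
  intro T x y hxy
  have : Sheaf.IsLocallySurjective a := isLocallySurjective_of_etale_surjective a hae has
  apply yon_hom_ext_of_mem_J ((J S).intersection_covering (liftSieve_mem a x) (liftSieve_mem a y))
  rintro T' g ⟨⟨τ₁, hτ₁⟩, ⟨τ₂, hτ₂⟩⟩
  have h12 : τ₁ ≫ a ≫ f = τ₂ ≫ a ≫ f := by
    rw [← Category.assoc, hτ₁, ← Category.assoc τ₂, hτ₂, Category.assoc, Category.assoc, hxy]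
  let c := sqP.lift τ₁ τ₂ h12
  have hc1 : (c ≫ inv j) ≫ hae.rep.fst a = τ₁ := by
    rw [← hj1, Category.assoc, IsIso.inv_hom_id_assoc]; exact sqP.lift_fst _ _ _
  have hc2 : (c ≫ inv j) ≫ (yon S).map (hae.rep.snd a) = τ₂ := by
    rw [← hj2, Category.assoc, IsIso.inv_hom_id_assoc]; exact sqP.lift_snd _ _ _
  rw [← hτ₁, ← hτ₂, ← hc1, ← hc2, Category.assoc, Category.assoc, sqR.w]
  simp only [Category.assoc]

end Groth.Agent.H3.AlgSpProp
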