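import Mathlib
import Groth.Agent.Lib.Helper5.AlgSp.ClosedDescent
import Groth.Agent.Lib.Helper5.AlgSp.RepOver
import Groth.Agent.Lib.Helper5.AlgSp.Cover

set_option autoImplicit false
set_option linter.unusedSectionVars false

universe u

open CategoryTheory CategoryTheory.Limits AlgebraicGeometry MorphismProperty Opposite Topology

namespace Groth.Agent.H3.AlgSpProp

open _root_.AlgSp Groth.Agent.H5.AlgSp Groth.Agent.H5.Descent

variable {S : Scheme.{u}}

theorem exists_subspace_of_invariant_immersion {X : Sp S} (hX : IsAlgSpace X) {R U : Over S}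
    (s t : R ⟶ U) (p : (yon S).obj U ⟶ X) (hp : IsPresentation s t p)
    {Z' R' : Scheme.{u}} (i' : Z' ⟶ U.left) [IsImmersion i'] (k : R' ⟶ R.left) (s' t' : R' ⟶ Z')
    (hs : IsPullback k s' s.left i') (ht : IsPullback k t' t.left i') :
    ∃ (Z : Sp S) (_ : IsAlgSpace Z) (i : Z ⟶ X)
      (q : (yon S).obj (Over.mk (i' ≫ U.hom)) ⟶ Z),
      RepWith @IsImmersion i ∧
      IsPullback q ((yon S).map (Over.homMk i' rfl : Over.mk (i' ≫ U.hom) ⟶ U)) i p ∧
      (IsClosedImmersion i' → RepWith @IsClosedImmersion i) ∧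
      (IsOpenImmersion i' → RepWith @IsOpenImmersion i) := by
  let Z₀ : Over S := Over.mk (i' ≫ U.hom)
  let ι : Z₀ ⟶ U := Over.homMk i' rfl
  have hιmono : Mono ι := by
    have : Mono ((Over.forget S).map ι) := by
      change Mono i'
      infer_instance
    exact (Over.forget S).mono_of_mono_map this
  have hsat : ∀ (T : Over S) (v v' : T ⟶ U), (yon S).map v ≫ p = (yon S).map v' ≫ p →
      (∃ w : T ⟶ Z₀, w ≫ ι = v') → ∃ w : T ⟶ Z₀, w ≫ ι = v := by
    rintro T v v' hvv' ⟨w, rfl⟩
    -- lift (v, w ≫ ι) to R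
    let r' := hp.isPullback.lift ((yon S).map v) ((yon S).map (w ≫ ι)) hvv'
    obtain ⟨r, hr⟩ := (yon S).map_surjective r'
    have hr1 : r ≫ t = v := by
      apply (yon S).map_injective
      rw [Functor.map_comp, hr]
      exact hp.isPullback.lift_fst _ _ _
    have hr2 : r ≫ s = w ≫ ι := by
      apply (yon S).map_injective
      rw [Functor.map_comp, hr]
      exact hp.isPullback.lift_snd _ _ _
    -- r factors through R'
    have h2 : r.left ≫ s.left = w.left ≫ i' := by
      have := congrArg (fun m => m.left) hr2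
      exact this
    let ρ : T.left ⟶ R' := hs.lift r.left w.left h2
    have hρ1 : ρ ≫ k = r.left := hs.lift_fst _ _ _
    have hfac : (ρ ≫ t') ≫ i' = v.left := by
      rw [Category.assoc, ← ht.w, ← Category.assoc, hρ1, ← Over.comp_left, hr1]
    refine ⟨Over.homMk (ρ ≫ t') ?_, ?_⟩
    · change (ρ ≫ t') ≫ i' ≫ U.hom = T.hom
      rw [← Category.assoc, hfac]
      exact Over.w v
    · apply Over.OverMorphism.ext
      exact hfac
  obtain ⟨l, hl⟩ := exists_descLift (p := p) (ι := ι) hsat
  have sq := isPullback_desc l hl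
  have hfl := repWith_mono etale_le_flat hp.etale
  have hlfp := repWith_mono etale_le_lfp hp.etale
  have himm : RepWith @IsImmersion (descι p ι) :=
    repWith_isImmersion_of_baseChange hfl hlfp hp.surjective sq
      ((repWith_yon_map_iff @IsImmersion ι).2 (inferInstanceAs (IsImmersion i')))
  refine ⟨desc p ι, isAlgSpace_of_representable hX (descι p ι) himm.rep, descι p ι, l, himm, sq,
    ?_, ?_⟩
  · intro hc
    exact repWith_isClosedImmersion_of_baseChange hfl hlfp hp.surjective sq
      ((repWith_yon_map_iff @IsClosedImmersion ι).2 hc)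
  · intro ho
    exact repWith_isOpenImmersion_of_baseChange hfl hlfp hp.surjective sq
      ((repWith_yon_map_iff @IsOpenImmersion ι).2 ho)

end Groth.Agent.H3.AlgSpProp
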