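import Mathlib

set_option autoImplicit false
set_option linter.unusedSectionVars false

universe u

open CategoryTheory CategoryTheory.Limits AlgebraicGeometry MorphismProperty Topology TopologicalSpace

namespace Groth.Agent.H3.LocFinIrr

section Top

variable {Z : Type*} [TopologicalSpace Z]

/-- The points without proper generizations. -/
def Gen (Z : Type*) [TopologicalSpace Z] : Set Z := {z | ∀ y, y ⤳ z → z ⤳ y}

lemma genericPoints_eq_gen [QuasiSober Z] : genericPoints Z = Gen Z := by
  ext x
  constructor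
  · intro hx y hy
    have hsub : closure {x} ⊆ closure {y} := specializes_iff_closure_subset.1 hy
    have hirr : IsIrreducible (closure ({y} : Set Z)) := isIrreducible_singleton.closure
    have := hx.2 hirr hsub
    exact specializes_iff_closure_subset.2 this
  · intro hx
    refine ⟨isIrreducible_singleton.closure, fun T hT hsub => ?_⟩
    have hT' : IsIrreducible (closure T) := hT.closure
    have hgen := hT'.isGenericPoint_genericPoint_closure
    rw [closure_closure] at hgen
    have hxT : x ∈ closure T := subset_closure (hsub (subset_closure rfl))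
    have h1 : hT'.genericPoint ⤳ x := hgen.specializes hxT
    have h2 : x ⤳ hT'.genericPoint := hx _ h1
    have h3 : closure {hT'.genericPoint} ⊆ closure {x} := specializes_iff_closure_subset.1 h2
    rw [hgen.def] at h3
    exact subset_closure.trans h3

lemma gen_subtype_iff {W : Set Z} (hW : IsOpen W) (w : W) : w ∈ Gen ↥W ↔ (w : Z) ∈ Gen Z := by
  constructor
  · intro h y hy
    have hyW : y ∈ W := hy.mem_open hW w.2
    have := h ⟨y, hyW⟩ ((subtype_specializes_iff _ _).2 hy)
    exact (subtype_specializes_iff _ _).1 this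
  · intro h y hy
    exact (subtype_specializes_iff _ _).2 (h _ ((subtype_specializes_iff _ _).1 hy))

lemma finite_irreducibleComponents_iff [QuasiSober Z] [T0Space Z] :
    (irreducibleComponents Z).Finite ↔ (Gen Z).Finite := by
  rw [← genericPoints_eq_gen]
  exact ⟨fun h => genericPoints.finite h, fun h =>
    @Finite.of_injective _ _ h _ (genericPoints.equiv (α := Z)).symm.injective⟩

/-- For an open subset of a sober space: finitely many irreducible components iff finitely many
maximal points of the ambient space lie in it. -/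
lemma finite_irreducibleComponents_open_iff [QuasiSober Z] [T0Space Z] {W : Set Z} (hW : IsOpen W) :
    (irreducibleComponents ↥W).Finite ↔ (Gen Z ∩ W).Finite := by
  have : QuasiSober ↥W := hW.isOpenEmbedding_subtypeVal.quasiSober
  rw [finite_irreducibleComponents_iff]
  have : Gen Z ∩ W = Subtype.val '' (Gen ↥W) := by
    ext z
    constructor
    · rintro ⟨hz, hzW⟩
      exact ⟨⟨z, hzW⟩, (gen_subtype_iff hW ⟨z, hzW⟩).2 hz, rfl⟩
    · rintro ⟨w, hw, rfl⟩
      exact ⟨(gen_subtype_iff hW w).1 hw, w.2⟩
  rw [this]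
  exact (Set.finite_image_iff Subtype.val_injective.injOn).symm

lemma gen_iff_of_isOpenEmbedding {A B : Type*} [TopologicalSpace A] [TopologicalSpace B] {f : A → B}
    (hf : IsOpenEmbedding f) (a : A) : a ∈ Gen A ↔ f a ∈ Gen B := by
  constructor
  · intro h y hy
    have hy' : y ∈ Set.range f := hy.mem_open hf.isOpen_range ⟨a, rfl⟩
    obtain ⟨a', rfl⟩ := hy'
    exact (h a' (hf.isInducing.specializes_iff.1 hy)).map hf.continuous
  · intro h a' ha'
    exact hf.isInducing.specializes_iff.1 (h _ (ha'.map hf.continuous))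

lemma gen_image_of_isOpenEmbedding {A B : Type*} [TopologicalSpace A] [TopologicalSpace B] {f : A → B}
    (hf : IsOpenEmbedding f) : f '' Gen A = Gen B ∩ Set.range f := by
  ext b
  constructor
  · rintro ⟨a, ha, rfl⟩
    exact ⟨(gen_iff_of_isOpenEmbedding hf a).1 ha, a, rfl⟩
  · rintro ⟨hb, a, rfl⟩
    exact ⟨a, (gen_iff_of_isOpenEmbedding hf a).2 hb, rfl⟩

end Top

section Sch

variable {U V : Scheme.{u}}

/-- A quasi-compact morphism locally of finite type has only finitely many maximal points in each
fibre. -/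
theorem finite_gen_fibre (g : U ⟶ V) [QuasiCompact g] [LocallyOfFiniteType g] (η : V) :
    {w : U | w ∈ Gen U ∧ g w = η}.Finite := by
  have hlft : LocallyOfFiniteType (g.fiberToSpecResidueField η) :=
    MorphismProperty.pullback_snd _ _ inferInstance
  have hN : IsLocallyNoetherian (g.fiber η) :=
    LocallyOfFiniteType.isLocallyNoetherian (g.fiberToSpecResidueField η)
  have hN' : IsNoetherian (g.fiber η) := { }
  have hfin : (Gen (g.fiber η)).Finite :=
    finite_irreducibleComponents_iff.1 NoetherianSpace.finite_irreducibleComponents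
  refine (hfin.image (g.fiberι η)).subset ?_
  rintro w ⟨hw, hwη⟩
  have hwr : w ∈ Set.range (g.fiberι η) := by rw [g.range_fiberι]; exact hwη
  obtain ⟨t, rfl⟩ := hwr
  refine ⟨t, fun t' ht' => ?_, rfl⟩
  have h1 : g.fiberι η t' ⤳ g.fiberι η t := ht'.map (g.fiberι η).continuous
  exact (g.fiberι η).isEmbedding.isInducing.specializes_iff.1 (hw _ h1)

/-- A flat morphism maps maximal points to maximal points. -/
theorem gen_map_of_flat (g : U ⟶ V) [Flat g] {w : U} (hw : w ∈ Gen U) : g w ∈ Gen V := by
  intro y hy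
  obtain ⟨w', hw', rfl⟩ := Flat.generalizingMap g hy
  exact (hw _ hw').map g.continuous

/-- Quasi-compact opens have finitely many irreducible components. -/
def LFI (U : Scheme.{u}) : Prop :=
  ∀ W : U.Opens, IsCompact (W : Set ↥U) → (irreducibleComponents ↥W).Finite

theorem lfi_iff (U : Scheme.{u}) :
    LFI U ↔ ∀ W : U.Opens, IsCompact (W : Set ↥U) → (Gen ↥U ∩ (W : Set ↥U)).Finite := by
  refine forall_congr' fun W => imp_congr_right fun _ => ?_
  exact finite_irreducibleComponents_open_iff W.2

/-- The maximal points of an open subscheme. -/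
lemma finite_gen_toScheme_iff (O : U.Opens) :
    (Gen ↥O.toScheme).Finite ↔ (Gen ↥U ∩ (O : Set ↥U)).Finite := by
  have h := gen_image_of_isOpenEmbedding O.ι.isOpenEmbedding
  have hr : Set.range O.ι = (O : Set ↥U) := by simp
  rw [hr] at h
  rw [← h]
  exact (Set.finite_image_iff O.ι.isOpenEmbedding.injective.injOn).symm

/-- A flat morphism locally of finite type into a scheme whose quasi-compact opens have finitely
many irreducible components has a source with the same property. -/
theorem lfi_of_flat_lft (g : U ⟶ V) [Flat g] [LocallyOfFiniteType g] (hV : LFI V) : LFI U := by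
  rw [lfi_iff] at hV ⊢
  intro W hW
  -- local pieces
  have hloc : ∀ w : ↥U, w ∈ W → ∃ O : U.Opens, w ∈ O ∧ (Gen ↥U ∩ (O : Set ↥U)).Finite := by
    intro w hw
    obtain ⟨V', hV', hgw, -⟩ := exists_isAffineOpen_mem_and_subset (x := g w) (U := ⊤) trivial
    obtain ⟨O, hO, hwO, hOle⟩ := exists_isAffineOpen_mem_and_subset (x := w) (U := g ⁻¹ᵁ V') hgw
    refine ⟨O, hwO, ?_⟩
    rw [← finite_gen_toScheme_iff]
    have hfinV : (Gen ↥V'.toScheme).Finite :=
      (finite_gen_toScheme_iff V').2 (hV V' hV'.isCompact)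
    have : IsAffine O.toScheme := hO
    have : IsAffine V'.toScheme := hV'
    let gj : O.toScheme ⟶ V'.toScheme := g.resLE V' O hOle
    have hsub : Gen ↥O.toScheme ⊆
        ⋃ η ∈ Gen ↥V'.toScheme, {w : ↥O.toScheme | w ∈ Gen ↥O.toScheme ∧ gj w = η} := by
      intro w hw
      simp only [Set.mem_iUnion, Set.mem_ofPred_eq, exists_prop]
      exact ⟨gj w, gen_map_of_flat gj hw, hw, rfl⟩
    exact (hfinV.biUnion fun η _ => finite_gen_fibre gj η).subset hsub
  choose! O hO hOfin using hloc
  obtain ⟨t, ht, htcov⟩ := hW.elim_nhds_subcover (fun w => (O w : Set ↥U))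
    (fun w hw => (O w).2.mem_nhds (hO w hw))
  have hfin : (⋃ w ∈ t, (Gen ↥U ∩ (O w : Set ↥U))).Finite :=
    t.finite_toSet.biUnion fun w hw => hOfin w (ht w hw)
  refine hfin.subset ?_
  rintro z ⟨hz, hzW⟩
  obtain ⟨w, hw, hzw⟩ := Set.mem_iUnion₂.1 (htcov hzW)
  exact Set.mem_iUnion₂.2 ⟨w, hw, hz, hzw⟩

/-- Every point of a scheme has a generization without proper generizations. -/
theorem exists_gen_specializes (u : ↥U) : ∃ ξ : ↥U, ξ ∈ Gen ↥U ∧ ξ ⤳ u := by
  have hirr : IsIrreducible (irreducibleComponent u) := isIrreducible_irreducibleComponent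
  have hcl : IsClosed (irreducibleComponent u) := isClosed_irreducibleComponent
  have hgen := hirr.isGenericPoint_genericPoint_closure
  rw [hcl.closure_eq] at hgen
  refine ⟨hirr.genericPoint, ?_, hgen.specializes mem_irreducibleComponent⟩
  rw [← genericPoints_eq_gen]
  change closure {hirr.genericPoint} ∈ irreducibleComponents ↥U
  rw [hgen.def]
  exact irreducibleComponent_mem_irreducibleComponents u

/-- Descent of the property along an open surjective generalizing morphism (e.g. étale
surjective). -/
theorem lfi_of_surjective_of_isOpenMap (g : U ⟶ V) (hopen : IsOpenMap g) (hs : Function.Surjective g)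
    (hU : LFI U) : LFI V := by
  rw [lfi_iff] at hU ⊢
  intro W hW
  have hloc : ∀ v : ↥V, v ∈ W → ∃ O : U.Opens, IsCompact (O : Set ↥U) ∧ v ∈ g '' (O : Set ↥U) := by
    intro v hv
    obtain ⟨x, rfl⟩ := hs v
    obtain ⟨O, hO, hxO, -⟩ := exists_isAffineOpen_mem_and_subset (x := x) (U := ⊤) trivial
    exact ⟨O, hO.isCompact, x, hxO, rfl⟩
  choose! O hOc hO using hloc
  obtain ⟨t, ht, htcov⟩ := hW.elim_nhds_subcover (fun v => g '' (O v : Set ↥U))
    (fun v hv => (hopen _ (O v).2).mem_nhds (hO v hv))
  have hfin : (⋃ v ∈ t, g '' (Gen ↥U ∩ (O v : Set ↥U))).Finite :=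
    t.finite_toSet.biUnion fun v hv => (hU (O v) (hOc v (ht v hv))).image g
  refine hfin.subset ?_
  rintro η ⟨hη, hηW⟩
  obtain ⟨v, hv, x, hxO, rfl⟩ := Set.mem_iUnion₂.1 (htcov hηW)
  obtain ⟨ξ, hξ, hξx⟩ := exists_gen_specializes x
  have hξO : ξ ∈ (O v : Set ↥U) := hξx.mem_open (O v).2 hxO
  have h1 : g ξ ⤳ g x := hξx.map g.continuous
  have h2 : g ξ = g x := (Specializes.antisymm h1 (hη _ h1)).eq
  exact Set.mem_iUnion₂.2 ⟨v, hv, ξ, ⟨hξ, hξO⟩, h2⟩

end Sch

end Groth.Agent.H3.LocFinIrr
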