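import Mathlib
import Groth.Agent.Lib.Helper3.AlgSpMor.LocFinIrr
import Groth.Agent.Lib.Helper3.AlgSpMor.Codim0QFSp
import Groth.Agent.Lib.Helper5.AlgSp.QCompact

set_option autoImplicit false
set_option linter.unusedSectionVars false

universe u

open CategoryTheory CategoryTheory.Limits AlgebraicGeometry MorphismProperty Topology TopologicalSpace Order

namespace Groth.Agent.H3.LocFinIrr

open _root_.AlgSp Groth.Agent.H5.AlgSp Groth.Agent.H3.AlgSpProp
open Groth.Agent.H3.Codim0QF (C0 c0_iff_coheight)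

variable {S : Scheme.{u}}

/-- S10303 -/
theorem etaleLocally_lfi_of_flat_lft {X Y : Sp S} (hX : IsAlgSpace X) (f : X ⟶ Y)
    (hfl : LocP @Flat f) (hft : LocP @LocallyOfFiniteType f) (hY : EtaleLocally LFI Y) :
    EtaleLocally LFI X := by
  obtain ⟨V, b, hbe, hbs, hV⟩ := hY
  obtain ⟨U, a, h, hae, has, comm⟩ := exists_chart_diagram_surj hX f hbe hbs
  have h1 : Flat h.left := hfl a b h hae hbe comm
  have h2 : LocallyOfFiniteType h.left := hft a b h hae hbe comm
  exact ⟨U, a, hae, has, lfi_of_flat_lft h.left hV⟩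

/-- The property holds on every étale chart as soon as it holds on one étale atlas. -/
theorem lfi_of_etale_chart {X : Sp S} (hX : EtaleLocally LFI X) {U : Over S}
    (a : (yon S).obj U ⟶ X) (hae : RepWith @Etale a) : LFI U.left := by
  obtain ⟨U₀, a₀, ha₀e, ha₀s, hU₀⟩ := hX
  have sq := ha₀e.rep.isPullback a
  obtain ⟨q, hq⟩ := (yon S).map_surjective (ha₀e.rep.fst a)
  have hqe : Etale q.left := by
    have : RepWith @Etale ((yon S).map q) := by
      rw [hq]
      exact MorphismProperty.of_isPullback (P := RepWith @Etale) sq.flip hae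
    exact (repWith_yon_map_iff @Etale q).1 this
  have hπe : Etale (ha₀e.rep.snd a).left := ha₀e.property_snd a
  have hπs : Surjective (ha₀e.rep.snd a).left := ha₀s.property_snd a
  have hP : LFI (ha₀e.rep.pullback a).left := lfi_of_flat_lft q.left hU₀
  exact lfi_of_surjective_of_isOpenMap (ha₀e.rep.snd a).left
    (ha₀e.rep.snd a).left.isOpenMap hπs.surj hP

lemma gen_iff_c0 {U : Scheme.{u}} (u : ↥U) : u ∈ Gen ↥U ↔ C0 U u := by
  rw [c0_iff_coheight, coheight_eq_zero]
  rfl

lemma finite_irreducibleComponents_of_surjective {A B : Type*} [TopologicalSpace A]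
    [TopologicalSpace B] (c : A → B) (hc : Continuous c) (hs : Function.Surjective c)
    (hA : (irreducibleComponents A).Finite) : (irreducibleComponents B).Finite := by
  refine (hA.image fun Z => closure (c '' Z)).subset ?_
  intro Z' hZ'
  have hcov : Z' ⊆ ⋃₀ ((hA.image fun Z => closure (c '' Z)).toFinset : Set (Set B)) := by
    intro z _
    obtain ⟨x, rfl⟩ := hs z
    refine Set.mem_sUnion.2 ⟨closure (c '' irreducibleComponent x), ?_, ?_⟩
    · simp only [Set.Finite.coe_toFinset, Set.mem_image]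
      exact ⟨_, irreducibleComponent_mem_irreducibleComponents x, rfl⟩
    · exact subset_closure ⟨x, mem_irreducibleComponent, rfl⟩
  obtain ⟨T, hT, hZT⟩ := (isIrreducible_iff_sUnion_isClosed.1 hZ'.1) _ (by
    intro z hz
    simp only [Set.Finite.mem_toFinset, Set.mem_image] at hz
    obtain ⟨Z, -, rfl⟩ := hz
    exact isClosed_closure) hcov
  simp only [Set.Finite.mem_toFinset, Set.mem_image] at hT
  obtain ⟨Z, hZ, rfl⟩ := hT
  refine ⟨Z, hZ, ?_⟩
  have hirr : IsIrreducible (closure (c '' Z)) := (hZ.1.image c hc.continuousOn).closure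
  exact le_antisymm (hZ'.2 hirr hZT) hZT

/-- The open subscheme `W` of a chart, as an étale chart. -/
theorem open_chart {X : Sp S} {U : Over S} (a : (yon S).obj U ⟶ X) (hae : RepWith @Etale a)
    (W : U.left.Opens) :
    RepWith @Etale ((yon S).map (Over.homMk W.ι rfl : Over.mk (W.ι ≫ U.hom) ⟶ U) ≫ a) :=
  (RepWith @Etale).comp_mem _ _ ((repWith_yon_map_iff _ _).2
    (show Etale W.ι from inferInstance)) hae

theorem isEtaleMor_of_repWith_etale {X : Sp S} {T : Over S} (c : (yon S).obj T ⟶ X)
    (hc : RepWith @Etale c) : IsEtaleMor c :=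
  fun _ _ hφ => (RepWith @Etale).comp_mem _ _ hφ hc

/-- S10304, first equivalence. -/
theorem etaleLocally_lfi_iff_forall_chart {X : Sp S} (hX : IsAlgSpace X) :
    EtaleLocally LFI X ↔ ∀ (U : Over S) (a : (yon S).obj U ⟶ X), RepWith @Etale a → LFI U.left := by
  refine ⟨fun h U a hae => lfi_of_etale_chart h a hae, fun h => ?_⟩
  obtain ⟨U, a, hae, has⟩ := hX.atlas
  exact ⟨U, a, hae, has, h U a hae⟩

/-- S10304, second equivalence. -/
theorem etaleLocally_lfi_iff_codim_zero {X : Sp S} (hX : IsAlgSpace X) :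
    EtaleLocally LFI X ↔ ∀ (Y : Sp S) (_ : IsAlgSpace Y) (g : Y ⟶ X), IsEtaleMor g →
      IsQuasiCompactSp Y → {y : Points Y | HasAt C0 Y y}.Finite := by
  constructor
  · intro h Y hY g hg ⟨T, c, hce, hcs, hT⟩
    have hT' : CompactSpace ↥T.left := hT
    have hlfi : LFI T.left := lfi_of_etale_chart h (c ≫ g) (hg c hce)
    have hfin : (Gen ↥T.left ∩ ((⊤ : T.left.Opens) : Set ↥T.left)).Finite :=
      (lfi_iff _).1 hlfi ⊤ (by simpa using isCompact_univ)
    refine (hfin.image (Points.ofPt c)).subset ?_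
    intro y hy
    obtain ⟨t, rfl⟩ := ofPt_surjective_of_repWith hcs y
    have hloc : EtaleLocalAt C0 := etaleLocalAt_ringKrullDim_stalk 0
    have := (hasAt_iff_forall hloc hY _).1 hy T c t hce rfl
    exact ⟨t, ⟨(gen_iff_c0 t).2 this, trivial⟩, rfl⟩
  · intro h
    rw [etaleLocally_lfi_iff_forall_chart hX]
    intro U a hae
    rw [lfi_iff]
    intro W hW
    have hWc : CompactSpace ↥(Over.mk (W.ι ≫ U.hom)).left := isCompact_iff_compactSpace.1 hW
    have hfin := h _ (IsAlgSpace.yon_obj (Over.mk (W.ι ≫ U.hom))) _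
      (isEtaleMor_of_repWith_etale _ (open_chart a hae W))
      ((isQuasiCompactSp_yon_iff _).2 hWc)
    rw [← finite_gen_toScheme_iff]
    refine Set.Finite.of_finite_image (hfin.subset ?_)
      ((Points.schemeHomeo (Over.mk (W.ι ≫ U.hom))).injective.injOn)
    rintro _ ⟨w, hw, rfl⟩
    exact ⟨_, 𝟙 _, w, repWith_id _ _, rfl, (gen_iff_c0 (U := W.toScheme) w).1 hw⟩

/-- S10304, third equivalence. -/
theorem etaleLocally_lfi_iff_irreducibleComponents {X : Sp S} (hX : IsAlgSpace X) :
    EtaleLocally LFI X ↔ ∀ (Y : Sp S) (_ : IsAlgSpace Y) (g : Y ⟶ X), IsEtaleMor g →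
      IsQuasiCompactSp Y → (irreducibleComponents (Points Y)).Finite := by
  constructor
  · intro h Y hY g hg ⟨T, c, hce, hcs, hT⟩
    have hT' : CompactSpace ↥T.left := hT
    have hlfi : LFI T.left := lfi_of_etale_chart h (c ≫ g) (hg c hce)
    have hfin : (irreducibleComponents ↥(⊤ : T.left.Opens)).Finite :=
      hlfi ⊤ (by simpa using isCompact_univ)
    have hfin' : (irreducibleComponents ↥T.left).Finite :=
      finite_irreducibleComponents_of_surjective (Subtype.val : ↥(⊤ : T.left.Opens) → ↥T.left)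
        continuous_subtype_val (fun t => ⟨⟨t, trivial⟩, rfl⟩) hfin
    exact finite_irreducibleComponents_of_surjective (Points.ofPt c) (Points.continuous_ofPt c)
      (ofPt_surjective_of_repWith hcs) hfin'
  · intro h
    rw [etaleLocally_lfi_iff_forall_chart hX]
    intro U a hae W hW
    have hWc : CompactSpace ↥(Over.mk (W.ι ≫ U.hom)).left := isCompact_iff_compactSpace.1 hW
    have hfin := h _ (IsAlgSpace.yon_obj (Over.mk (W.ι ≫ U.hom))) _
      (isEtaleMor_of_repWith_etale _ (open_chart a hae W))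
      ((isQuasiCompactSp_yon_iff _).2 hWc)
    exact finite_irreducibleComponents_of_surjective
      (Points.schemeHomeo (Over.mk (W.ι ≫ U.hom))).symm
      (Points.schemeHomeo (Over.mk (W.ι ≫ U.hom))).symm.continuous
      (Points.schemeHomeo (Over.mk (W.ι ≫ U.hom))).symm.surjective hfin

end Groth.Agent.H3.LocFinIrr
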