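import Mathlib
import Groth.Prelude.Def_AlgSpDec
import Groth.Agent.Lib.Helper3.AlgSpMor.Codim0
import Groth.Agent.Lib.Helper3.AlgSpProp.HasAt

set_option autoImplicit false
set_option linter.unusedSectionVars false

universe u

open CategoryTheory CategoryTheory.Limits AlgebraicGeometry MorphismProperty Opposite Topology Order

namespace Groth.Agent.H3.AlgSpProp

open _root_.AlgSp Groth.Agent.H5.AlgSp Groth.Agent.H3.EtaleDim

variable {S : Scheme.{u}}

/-- A locally quasi-finite morphism of schemes does not lower codimension of points. -/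
theorem coheight_le_of_locallyQuasiFinite {Z U : Scheme.{u}} (g : Z ⟶ U) [LocallyQuasiFinite g]
    (z : Z) : coheight z ≤ coheight (g z) :=
  coheight_le_coheight_apply_of_strictMono (fun z : Z => g z) (strictMono_of_locallyQuasiFinite g) z

/-- A locally quasi-finite morphism of schemes does not raise dimension. -/
theorem dim_le_of_locallyQuasiFinite {Z U : Scheme.{u}} (g : Z ⟶ U) [LocallyQuasiFinite g] :
    topologicalKrullDim ↥Z ≤ topologicalKrullDim ↥U := by
  rw [scheme_dim_eq_iSup_coheight, scheme_dim_eq_iSup_coheight]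
  refine iSup_le fun z => le_iSup_of_le (g z) ?_
  exact_mod_cast coheight_le_of_locallyQuasiFinite g z

/-- Dimension of local rings along a locally quasi-finite morphism of algebraic spaces. -/
theorem ringKrullDim_stalk_le_of_locP_locallyQuasiFinite {X Y : Sp S} (hX : IsAlgSpace X)
    (hY : IsAlgSpace Y) (f : X ⟶ Y)
    (hf : LocP (@LocallyQuasiFinite ⊓ @LocallyOfFiniteType) f) (x : Points X)
    (d e : WithBot ℕ∞)
    (hx : HasAt (fun U u => ringKrullDim ↥(U.presheaf.stalk u) = d) X x)
    (hy : HasAt (fun V v => ringKrullDim ↥(V.presheaf.stalk v) = e) Y (Points.map f x)) :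
    d ≤ e := by
  have hall := (hasAt_iff_forall (etaleLocalAt_ringKrullDim_stalk d) hX x).1 hx
  obtain ⟨V, b, v, hbe, hv, hdim⟩ := hy
  obtain ⟨U, a, h, c, hae, comm, hce, hcs, hca, hch⟩ := exists_chart_diagram hX f hbe
  obtain ⟨z, hz1, hz2⟩ := points_pullback_surjective (IsPullback.of_hasPullback f b) x
    (Points.ofScheme V v) (by rw [← Points.ofPt_eq_map_ofScheme, hv])
  obtain ⟨u, rfl⟩ := ofPt_surjective_of_repWith hcs z
  have hux : Points.ofPt a u = x := by
    rw [← hca, ← Points.map_ofPt, hz1]
  have huv : h.left u = v := by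
    have h1 : Points.ofPt ((yon S).map h) u = Points.ofScheme V v := by
      rw [← hch, ← Points.map_ofPt, hz2]
    have h2 := congrArg (Points.toScheme V) h1
    rwa [Points.toScheme_ofPt, Points.toScheme_ofScheme] at h2
  have hqf : LocallyQuasiFinite h.left := (hf a b h hae hbe comm).1
  have h0 : ringKrullDim ↥(U.left.presheaf.stalk u) = d := hall U a u hae hux
  rw [← h0, ← hdim, ringKrullDim_stalk_eq_coheight, ringKrullDim_stalk_eq_coheight, ← huv]
  exact_mod_cast coheight_le_of_locallyQuasiFinite h.left u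

/-- A locally quasi-finite morphism of algebraic spaces does not raise dimension. -/
theorem dim_le_dim_of_locP_locallyQuasiFinite {X Y : Sp S} (hX : IsAlgSpace X)
    (hY : IsAlgSpace Y) (f : X ⟶ Y)
    (hf : LocP (@LocallyQuasiFinite ⊓ @LocallyOfFiniteType) f) :
    AlgSp.dim X ≤ AlgSp.dim Y := by
  unfold AlgSp.dim
  refine iSup_le fun U => iSup_le fun a => iSup_le fun hae => ?_
  obtain ⟨V, b, hbe, hbs⟩ := hY.atlas
  have sq := hbe.rep.isPullback (a ≫ f)
  obtain ⟨h, hh⟩ := (yon S).map_surjective (hbe.rep.fst (a ≫ f))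
  have hsnd : RepWith @Etale ((yon S).map (hbe.rep.snd (a ≫ f))) :=
    MorphismProperty.of_isPullback (P := RepWith @Etale) sq hbe
  have hsnds : RepWith @Surjective ((yon S).map (hbe.rep.snd (a ≫ f))) :=
    MorphismProperty.of_isPullback (P := RepWith @Surjective) sq hbs
  have hae' : RepWith @Etale ((yon S).map (hbe.rep.snd (a ≫ f)) ≫ a) :=
    (RepWith @Etale).comp_mem _ _ hsnd hae
  have comm : ((yon S).map (hbe.rep.snd (a ≫ f)) ≫ a) ≫ f = (yon S).map h ≫ b := by
    rw [hh, Category.assoc]
    exact sq.w.symm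
  have hqf : LocallyQuasiFinite h.left := (hf _ b h hae' hbe comm).1
  have he : Etale (hbe.rep.snd (a ≫ f)).left := (repWith_yon_map_iff @Etale _).1 hsnd
  have hs : Surjective (hbe.rep.snd (a ≫ f)).left := (repWith_yon_map_iff @Surjective _).1 hsnds
  rw [← dim_eq_of_etale_surjective (hbe.rep.snd (a ≫ f)).left]
  refine (dim_le_of_locallyQuasiFinite h.left).trans ?_
  exact le_iSup_of_le V (le_iSup_of_le b (le_iSup_of_le hbe le_rfl))

end Groth.Agent.H3.AlgSpProp
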