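import Groth.Agent.Lib.Helper5.AlgSp.ProdSp
import Groth.Agent.Lib.Helper5.AlgSp.DiagBC
import Groth.Agent.Lib.Helper5.AlgSp.AffineBase
import Mathlib

/-!
# Separated algebraic spaces and affine fibre products (helper3)
-/

set_option autoImplicit false
set_option linter.unusedSectionVars false
universe u
open CategoryTheory CategoryTheory.Limits AlgebraicGeometry Topology TopologicalSpace
open AlgSp

namespace Groth.Agent.H3.SepAffine

open Groth.Agent.H5.AlgSp TensorProduct

variable {S : Scheme.{u}}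

/-- The square exhibiting `P = h_U ×_X h_V ⟶ h_{U ×_S V}` as base change of the diagonal. -/
theorem isPullback_diag_prodLift
    {X : Sp S} {U V P : Over S}
    {a : (yon S).obj U ⟶ X} {b : (yon S).obj V ⟶ X} {fst : P ⟶ U} {snd : P ⟶ V}
    (h : IsPullback ((yon S).map fst) ((yon S).map snd) a b) :
    IsPullback ((yon S).map fst ≫ a) ((yon S).map (prod.lift fst snd)) (Limits.diag X)
      (prodComparison (yon S) U V ≫ prod.map a b) := by
  have h1 := isPullback_diag_prod_map h
  have e : prod.lift ((yon S).map fst) ((yon S).map snd) =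
      (yon S).map (prod.lift fst snd) ≫ prodComparison (yon S) U V := by
    apply Limits.prod.hom_ext
    · rw [prod.lift_fst, Category.assoc, prodComparison_fst, ← Functor.map_comp, prod.lift_fst]
    · rw [prod.lift_snd, Category.assoc, prodComparison_snd, ← Functor.map_comp, prod.lift_snd]
  rw [e] at h1
  exact IsPullback.of_iso h1 (Iso.refl _) (Iso.refl _) (asIso (prodComparison (yon S) U V)).symm
    (Iso.refl _) (by simp) (by simp) (by simp) (by simp)

/-- If the diagonal of `X` has `Q` then `P = h_U ×_X h_V ⟶ U ×_S V` has `Q`. -/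
theorem prodLift_left_of_repWith_diag {Q : MorphismProperty Scheme.{u}}
    {X : Sp S} (hX : RepWith Q (Limits.diag X)) {U V P : Over S}
    {a : (yon S).obj U ⟶ X} {b : (yon S).obj V ⟶ X} {fst : P ⟶ U} {snd : P ⟶ V}
    (h : IsPullback ((yon S).map fst) ((yon S).map snd) a b) :
    Q (prod.lift fst snd).left :=
  hX.property _ _ _ (isPullback_diag_prodLift h)

end Groth.Agent.H3.SepAffine

namespace Groth.Agent.H3.SepAffine

open TensorProduct

variable {X Y T : Scheme.{u}}

/-- The tensor product (over `ℤ`) of the rings of global sections. -/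
abbrev tens (X Y : Scheme.{u}) : CommRingCat.{u} := CommRingCat.of (Γ(X, ⊤) ⊗[ℤ] Γ(Y, ⊤))

/-- The ring map `Γ(X) ⊗ Γ(Y) ⟶ Γ(T)` induced by `t1 : T ⟶ X`, `t2 : T ⟶ Y`. -/
noncomputable abbrev prodRingMap (t1 : T ⟶ X) (t2 : T ⟶ Y) : tens X Y ⟶ Γ(T, ⊤) :=
  CommRingCat.ofHom (Algebra.TensorProduct.productMap t1.appTop.hom.toIntAlgHom
    t2.appTop.hom.toIntAlgHom).toRingHom

noncomputable abbrev inlHom (X Y : Scheme.{u}) : Γ(X, ⊤) ⟶ tens X Y :=
  CommRingCat.ofHom (Algebra.TensorProduct.includeLeft (R := ℤ) (S := ℤ)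
    (A := Γ(X, ⊤)) (B := Γ(Y, ⊤))).toRingHom

noncomputable abbrev inrHom (X Y : Scheme.{u}) : Γ(Y, ⊤) ⟶ tens X Y :=
  CommRingCat.ofHom (Algebra.TensorProduct.includeRight (R := ℤ)
    (A := Γ(X, ⊤)) (B := Γ(Y, ⊤))).toRingHom

lemma inlHom_prodRingMap (t1 : T ⟶ X) (t2 : T ⟶ Y) :
    inlHom X Y ≫ prodRingMap t1 t2 = t1.appTop := by
  ext x
  simp [inlHom, prodRingMap]

lemma inrHom_prodRingMap (t1 : T ⟶ X) (t2 : T ⟶ Y) :
    inrHom X Y ≫ prodRingMap t1 t2 = t2.appTop := by
  ext x
  simp [inrHom, prodRingMap]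

lemma tens_hom_ext {R : CommRingCat.{u}} {f g : tens X Y ⟶ R}
    (h1 : inlHom X Y ≫ f = inlHom X Y ≫ g) (h2 : inrHom X Y ≫ f = inrHom X Y ≫ g) : f = g := by
  ext x
  · have h1' := congrArg (fun φ => φ.hom x) h1
    simpa using h1'
  · have h2' := congrArg (fun φ => φ.hom x) h2
    simpa using h2'

/-- The morphism `T ⟶ Spec (Γ(X) ⊗ Γ(Y))` induced by `t1`, `t2`. -/
noncomputable def toSpecTens (t1 : T ⟶ X) (t2 : T ⟶ Y) : T ⟶ Spec (tens X Y) :=
  T.toSpecΓ ≫ Spec.map (prodRingMap t1 t2)

/-- first projection `Spec (Γ(X) ⊗ Γ(Y)) ⟶ X` for `X` affine. -/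
noncomputable def specTensFst (X Y : Scheme.{u}) [IsAffine X] : Spec (tens X Y) ⟶ X :=
  Spec.map (inlHom X Y) ≫ X.isoSpec.inv

noncomputable def specTensSnd (X Y : Scheme.{u}) [IsAffine Y] : Spec (tens X Y) ⟶ Y :=
  Spec.map (inrHom X Y) ≫ Y.isoSpec.inv

lemma toSpecTens_fst [IsAffine X] (t1 : T ⟶ X) (t2 : T ⟶ Y) :
    toSpecTens t1 t2 ≫ specTensFst X Y = t1 := by
  rw [toSpecTens, specTensFst, Category.assoc, ← Spec.map_comp_assoc, inlHom_prodRingMap,
    ← Scheme.toSpecΓ_naturality_assoc, ← Scheme.isoSpec_hom, Iso.hom_inv_id, Category.comp_id]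

lemma toSpecTens_snd [IsAffine Y] (t1 : T ⟶ X) (t2 : T ⟶ Y) :
    toSpecTens t1 t2 ≫ specTensSnd X Y = t2 := by
  rw [toSpecTens, specTensSnd, Category.assoc, ← Spec.map_comp_assoc, inrHom_prodRingMap,
    ← Scheme.toSpecΓ_naturality_assoc, ← Scheme.isoSpec_hom, Iso.hom_inv_id, Category.comp_id]

lemma specTens_hom_ext [IsAffine X] [IsAffine Y] {m m' : T ⟶ Spec (tens X Y)}
    (h1 : m ≫ specTensFst X Y = m' ≫ specTensFst X Y)
    (h2 : m ≫ specTensSnd X Y = m' ≫ specTensSnd X Y) : m = m' := by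
  apply ext_of_isAffine
  rw [← cancel_epi (Scheme.ΓSpecIso (tens X Y)).inv]
  apply tens_hom_ext
  · have h1' : m ≫ Spec.map (inlHom X Y) = m' ≫ Spec.map (inlHom X Y) := by
      simpa [specTensFst] using h1
    have := congrArg (fun φ => (Scheme.ΓSpecIso _).inv ≫ Scheme.Hom.appTop φ) h1'
    simpa [Scheme.Hom.comp_appTop, ← Scheme.ΓSpecIso_inv_naturality_assoc] using this
  · have h2' : m ≫ Spec.map (inrHom X Y) = m' ≫ Spec.map (inrHom X Y) := by
      simpa [specTensSnd] using h2
    have := congrArg (fun φ => (Scheme.ΓSpecIso _).inv ≫ Scheme.Hom.appTop φ) h2'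
    simpa [Scheme.Hom.comp_appTop, ← Scheme.ΓSpecIso_inv_naturality_assoc] using this

end Groth.Agent.H3.SepAffine

namespace Groth.Agent.H3.SepAffine

open TensorProduct

variable {S X Y P : Scheme.{u}} [IsAffine X] [IsAffine Y]

/-- `Spec (Γ(X) ⊗ Γ(Y))` is the product of the affine schemes `X` and `Y`. -/
noncomputable def specTensIsLimit (X Y : Scheme.{u}) [IsAffine X] [IsAffine Y] :
    IsLimit (BinaryFan.mk (specTensFst X Y) (specTensSnd X Y)) :=
  BinaryFan.IsLimit.mk _ (fun t1 t2 => toSpecTens t1 t2)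
    (fun t1 t2 => toSpecTens_fst t1 t2) (fun t1 t2 => toSpecTens_snd t1 t2)
    (fun t1 t2 m h1 h2 => specTens_hom_ext
      (by simpa [toSpecTens_fst] using h1) (by simpa [toSpecTens_snd] using h2))

/-- The square exhibiting `X ×_S Y ⟶ Spec (Γ(X) ⊗ Γ(Y))` as base change of the diagonal of `S`. -/
lemma isPullback_toSpecTens (f : X ⟶ S) (g : Y ⟶ S) :
    IsPullback (pullback.fst f g ≫ f) (toSpecTens (pullback.fst f g) (pullback.snd f g))
      (prod.lift (𝟙 S) (𝟙 S)) (prod.lift (specTensFst X Y ≫ f) (specTensSnd X Y ≫ g)) := by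
  refine IsPullback.mk' ?_ ?_ ?_
  · apply Limits.prod.hom_ext
    · simp only [Category.assoc, prod.lift_fst, Category.comp_id]
      rw [← Category.assoc, toSpecTens_fst]
    · simp only [Category.assoc, prod.lift_snd, Category.comp_id]
      rw [← Category.assoc, toSpecTens_snd, pullback.condition]
  · intro T φ φ' _ h2
    apply pullback.hom_ext
    · have := congrArg (· ≫ specTensFst X Y) h2
      simpa only [Category.assoc, toSpecTens_fst] using this
    · have := congrArg (· ≫ specTensSnd X Y) h2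
      simpa only [Category.assoc, toSpecTens_snd] using this
  · intro T a b hab
    have h1 : a = (b ≫ specTensFst X Y) ≫ f := by
      have := congrArg (· ≫ prod.fst) hab
      simpa only [Category.assoc, prod.lift_fst, Category.comp_id] using this
    have h2 : a = (b ≫ specTensSnd X Y) ≫ g := by
      have := congrArg (· ≫ prod.snd) hab
      simpa only [Category.assoc, prod.lift_snd, Category.comp_id] using this
    refine ⟨pullback.lift (b ≫ specTensFst X Y) (b ≫ specTensSnd X Y) (by rw [← h1, ← h2]),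
      ?_, ?_⟩
    · rw [← Category.assoc, pullback.lift_fst, ← h1]
    · apply specTens_hom_ext
      · rw [Category.assoc, toSpecTens_fst, pullback.lift_fst]
      · rw [Category.assoc, toSpecTens_snd, pullback.lift_snd]

instance (f : X ⟶ S) (g : Y ⟶ S) : Mono (toSpecTens (pullback.fst f g) (pullback.snd f g)) := by
  constructor
  intro T φ φ' h
  apply pullback.hom_ext
  · have := congrArg (· ≫ specTensFst X Y) h
    simpa only [Category.assoc, toSpecTens_fst] using this
  · have := congrArg (· ≫ specTensSnd X Y) h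
    simpa only [Category.assoc, toSpecTens_snd] using this

instance [S.IsSeparated] (f : X ⟶ S) (g : Y ⟶ S) :
    IsClosedImmersion (toSpecTens (pullback.fst f g) (pullback.snd f g)) :=
  MorphismProperty.of_isPullback (isPullback_toSpecTens f g) inferInstance

lemma toSpecTens_eq_lift_comp (f : X ⟶ S) (g : Y ⟶ S) (p1 : P ⟶ X) (p2 : P ⟶ Y)
    (w : p1 ≫ f = p2 ≫ g) :
    toSpecTens p1 p2 = pullback.lift p1 p2 w ≫
      toSpecTens (pullback.fst f g) (pullback.snd f g) := by
  apply specTens_hom_ext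
  · rw [Category.assoc, toSpecTens_fst, toSpecTens_fst, pullback.lift_fst]
  · rw [Category.assoc, toSpecTens_snd, toSpecTens_snd, pullback.lift_snd]

/-- `P` is affine and `Γ(X) ⊗ Γ(Y) ⟶ Γ(P)` is surjective iff `P ⟶ Spec (Γ(X) ⊗ Γ(Y))` is a closed
immersion. -/
lemma affine_surjective_iff (p1 : P ⟶ X) (p2 : P ⟶ Y) :
    (IsAffine P ∧ Function.Surjective (Algebra.TensorProduct.productMap
      p1.appTop.hom.toIntAlgHom p2.appTop.hom.toIntAlgHom)) ↔
      IsClosedImmersion (toSpecTens p1 p2) := by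
  constructor
  · rintro ⟨hP, hs⟩
    have : IsClosedImmersion (Spec.map (prodRingMap p1 p2)) :=
      IsClosedImmersion.spec_of_surjective _ hs
    rw [toSpecTens, ← Scheme.isoSpec_hom]
    infer_instance
  · intro h
    obtain ⟨hP, hs⟩ := IsClosedImmersion.isAffine_surjective_of_isAffine (toSpecTens p1 p2)
    refine ⟨hP, ?_⟩
    have e : (Scheme.ΓSpecIso (tens X Y)).inv ≫ (toSpecTens p1 p2).appTop = prodRingMap p1 p2 := by
      rw [toSpecTens, Scheme.Hom.comp_appTop, Scheme.toSpecΓ_appTop,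
        ← Scheme.ΓSpecIso_inv_naturality_assoc, Iso.inv_hom_id, Category.comp_id]
    have h2 : Function.Surjective (prodRingMap p1 p2).hom := by
      rw [← e]
      exact hs.comp (ConcreteCategory.bijective_of_isIso (Scheme.ΓSpecIso (tens X Y)).inv).2
    exact h2

/-- Main scheme-level lemma, direction 1 -/
lemma isClosedImmersion_lift_of_affine_surjective (f : X ⟶ S) (g : Y ⟶ S) (p1 : P ⟶ X)
    (p2 : P ⟶ Y) (w : p1 ≫ f = p2 ≫ g) (hP : IsAffine P)
    (hs : Function.Surjective (Algebra.TensorProduct.productMap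
      p1.appTop.hom.toIntAlgHom p2.appTop.hom.toIntAlgHom)) :
    IsClosedImmersion (pullback.lift p1 p2 w) := by
  have h := (affine_surjective_iff p1 p2).1 ⟨hP, hs⟩
  rw [toSpecTens_eq_lift_comp f g p1 p2 w] at h
  exact IsClosedImmersion.of_comp _ (toSpecTens (pullback.fst f g) (pullback.snd f g))

/-- Main scheme-level lemma, direction 2 -/
lemma affine_surjective_of_isClosedImmersion_lift [S.IsSeparated] (f : X ⟶ S) (g : Y ⟶ S)
    (p1 : P ⟶ X) (p2 : P ⟶ Y) (w : p1 ≫ f = p2 ≫ g)
    (h : IsClosedImmersion (pullback.lift p1 p2 w)) :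
    IsAffine P ∧ Function.Surjective (Algebra.TensorProduct.productMap
      p1.appTop.hom.toIntAlgHom p2.appTop.hom.toIntAlgHom) := by
  rw [affine_surjective_iff, toSpecTens_eq_lift_comp f g p1 p2 w]
  infer_instance

end Groth.Agent.H3.SepAffine


namespace Groth.Agent.H3.SepAffine

open Groth.Agent.H5.AlgSp

variable {S : Scheme.{u}}

lemma prodLift_left_comp_iso {U V P : Over S} (fst : P ⟶ U) (snd : P ⟶ V) :
    (prod.lift fst snd).left ≫ (Over.prodLeftIsoPullback U V).hom =
      pullback.lift fst.left snd.left (by rw [Over.w fst, Over.w snd]) := by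
  apply pullback.hom_ext
  · rw [Category.assoc, Over.prodLeftIsoPullback_hom_fst, ← Over.comp_left, prod.lift_fst,
      pullback.lift_fst]
  · rw [Category.assoc, Over.prodLeftIsoPullback_hom_snd, ← Over.comp_left, prod.lift_snd,
      pullback.lift_snd]

/-- S10187 core. -/
theorem affine_surjective_of_isSeparatedSp [S.IsSeparated] {X : Sp S}
    (hX : IsSeparatedSp X) {U V P : Over S}
    {a : (yon S).obj U ⟶ X} {b : (yon S).obj V ⟶ X} {fst : P ⟶ U} {snd : P ⟶ V}
    (hU : IsAffine U.left) (hV : IsAffine V.left)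
    (h : IsPullback ((yon S).map fst) ((yon S).map snd) a b) :
    IsAffine P.left ∧ Function.Surjective
      (Algebra.TensorProduct.productMap fst.left.appTop.hom.toIntAlgHom
        snd.left.appTop.hom.toIntAlgHom) := by
  have hq : IsClosedImmersion (prod.lift fst snd).left := prodLift_left_of_repWith_diag hX h
  have hq2 : IsClosedImmersion (pullback.lift fst.left snd.left
      (by rw [Over.w fst, Over.w snd] : fst.left ≫ U.hom = snd.left ≫ V.hom)) := by
    rw [← prodLift_left_comp_iso]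
    infer_instance
  exact affine_surjective_of_isClosedImmersion_lift U.hom V.hom fst.left snd.left _ hq2

/-- S10186 core. -/
theorem isSeparatedSp_of_affine_surjective {X : Sp S} (hX : IsAlgSpace X)
    (h : ∀ (U V P : Over S) (a : (yon S).obj U ⟶ X) (b : (yon S).obj V ⟶ X)
      (fst : P ⟶ U) (snd : P ⟶ V),
      IsAffine U.left → IsAffine V.left →
      IsPullback ((yon S).map fst) ((yon S).map snd) a b →
        IsAffine P.left ∧ Function.Surjective
          (Algebra.TensorProduct.productMap fst.left.appTop.hom.toIntAlgHom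
            snd.left.appTop.hom.toIntAlgHom)) :
    IsSeparatedSp X := by
  apply repWith_of_forall_affine hX.diag @IsClosedImmersion
  intro T V g fst' snd' hT sq
  have hb : Representable (g ≫ prod.snd) := hX.representable_from_yon _
  have sqP : IsPullback ((yon S).map (hb.snd (g ≫ prod.fst))) ((yon S).map (hb.fst' (g ≫ prod.fst)))
      (g ≫ prod.fst) (g ≫ prod.snd) := (hb.isPullback' (g ≫ prod.fst)).flip
  obtain ⟨hP, hs⟩ := h T T _ _ _ _ _ hT hT sqP
  have hq2 := isClosedImmersion_lift_of_affine_surjective T.hom T.hom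
    (hb.snd (g ≫ prod.fst)).left (hb.fst' (g ≫ prod.fst)).left
    (by rw [Over.w, Over.w]) hP hs
  rw [← prodLift_left_comp_iso] at hq2
  have hq : IsClosedImmersion (prod.lift (hb.snd (g ≫ prod.fst)) (hb.fst' (g ≫ prod.fst))).left := by
    have := MorphismProperty.cancel_right_of_respectsIso @IsClosedImmersion
      (prod.lift (hb.snd (g ≫ prod.fst)) (hb.fst' (g ≫ prod.fst))).left
      (Over.prodLeftIsoPullback T T).hom
    exact this.1 hq2
  obtain ⟨w, hw⟩ := diag_pullback_baseChange (g ≫ prod.fst) (g ≫ prod.snd) _ _ sqP g rfl rfl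
    fst' snd' sq
  exact MorphismProperty.of_isPullback (P := @IsClosedImmersion) (hw.map (Over.forget S)) hq

end Groth.Agent.H3.SepAffine
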