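import Mathlib
import Groth.Agent.Lib.Helper3.AlgSpMor.EtaleMono
import Groth.Agent.Lib.Helper5.AlgSp.LocPCalc
import Groth.Agent.Lib.Helper5.AlgSp.EtaleMor
import Groth.Agent.Lib.Helper5.AlgSp.FibreProduct

set_option autoImplicit false
set_option linter.unusedSectionVars false

universe u

open CategoryTheory CategoryTheory.Limits AlgebraicGeometry MorphismProperty Opposite Topology

namespace Groth.Agent.H3.AlgSpProp

open _root_.AlgSp Groth.Agent.H5.AlgSp Groth.Agent.H5.EtSrc

section Cat

variable {C : Type*} [Category C] [HasPullbacks C]

/-- If the diagonal of a composite has `P`, so does the diagonal of the first morphism. -/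
lemma diagonal_of_comp (P : MorphismProperty C) [P.IsStableUnderBaseChange] [P.IsMultiplicative]
    {X Y Z : C} (u : X ⟶ Y) (v : Y ⟶ Z) (h : P.diagonal (u ≫ v)) : P.diagonal u := by
  have : P.diagonal.HasOfPostcompProperty ⊤ := by
    rw [MorphismProperty.hasOfPostcompProperty_iff_le_diagonal]
    intro A B g _
    have : IsIso (pullback.diagonal (pullback.diagonal g)) :=
      (pullback.isIso_diagonal_iff _).2 inferInstance
    exact P.of_isIso _
  exact MorphismProperty.of_postcomp (W := P.diagonal) (W' := ⊤) u v trivial h

end Cat

variable {S : Scheme.{u}}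

lemma etale_le_unramified :
    (@Etale : MorphismProperty Scheme.{u}) ≤
      (@LocallyOfFiniteType ⊓ @FormallyUnramified : MorphismProperty Scheme.{u}) := by
  intro X Y f hf
  have : Etale f := hf
  exact ⟨inferInstance, inferInstance⟩

/-- The diagonal of an unramified morphism of algebraic spaces is an open immersion. -/
theorem repWith_isOpenImmersion_diagonal_of_unramified {X Y : Sp S} (hX : IsAlgSpace X)
    (hY : IsAlgSpace Y) (f : X ⟶ Y) (hf : LocP (@LocallyOfFiniteType ⊓ @FormallyUnramified) f) :
    RepWith @IsOpenImmersion (pullback.diagonal f) := by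
  have hXX : IsAlgSpace (pullback f f) :=
    isAlgSpace_pullback hY.diag hX hX (IsPullback.of_hasPullback f f)
  have h2 : LocP (@LocallyOfFiniteType ⊓ @FormallyUnramified) (pullback.snd f f) :=
    locP_of_isPullback etale_le_unramified (IsPullback.of_hasPullback f f) hX hY hX hf
  have hid : LocP @Etale (pullback.diagonal f ≫ pullback.snd f f) := by
    rw [pullback.diagonal_snd]
    exact locP_of_repWith le_rfl ((RepWith @Etale).id_mem X)
  have hΔ : LocP @Etale (pullback.diagonal f) := by
    refine locP_of_comp (P := @Etale) le_rfl
      (Pc := @LocallyOfFiniteType ⊓ @FormallyUnramified) ?_ hX hid h2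
    intro A B C u v huv hv
    have : Etale (u ≫ v) := huv
    have : LocallyOfFiniteType v := hv.1
    have : FormallyUnramified v := hv.2
    exact Etale.of_comp u v
  exact repWith_isOpenImmersion_of_mono_of_isEtaleMor hX (pullback.diagonal f)
    (isEtaleMor_of_locP_etale hXX hΔ)


/-- Transport of the open-immersion property of the diagonal from sheaves to schemes. -/
lemma isOpenImmersion_diagonal_of_repWith {U V : Over S} (h : U ⟶ V)
    (hD : RepWith @IsOpenImmersion (pullback.diagonal ((yon S).map h))) :
    IsOpenImmersion (pullback.diagonal h.left) := by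
  have sqO := IsPullback.of_hasPullback h h
  have sqY := sqO.map (yon S)
  have sqS : IsPullback (pullback.fst h h).left (pullback.snd h h).left h.left h.left :=
    sqO.map (Over.forget S)
  have e1 : (yon S).map (pullback.diagonal h) ≫ sqY.isoPullback.hom =
      pullback.diagonal ((yon S).map h) := by
    apply pullback.hom_ext
    · rw [Category.assoc, sqY.isoPullback_hom_fst, ← Functor.map_comp, pullback.diagonal_fst,
        pullback.diagonal_fst, CategoryTheory.Functor.map_id]
    · rw [Category.assoc, sqY.isoPullback_hom_snd, ← Functor.map_comp, pullback.diagonal_snd,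
        pullback.diagonal_snd, CategoryTheory.Functor.map_id]
  rw [← e1, MorphismProperty.cancel_right_of_respectsIso (RepWith @IsOpenImmersion),
    repWith_yon_map_iff] at hD
  have e2 : (pullback.diagonal h).left ≫ sqS.isoPullback.hom = pullback.diagonal h.left := by
    apply pullback.hom_ext
    · rw [Category.assoc, sqS.isoPullback_hom_fst,
        ← Over.comp_left, pullback.diagonal_fst, pullback.diagonal_fst, Over.id_left]
    · rw [Category.assoc, sqS.isoPullback_hom_snd,
        ← Over.comp_left, pullback.diagonal_snd, pullback.diagonal_snd, Over.id_left]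
  rw [← e2]
  have : IsOpenImmersion (pullback.diagonal h).left := hD
  infer_instance

/-- A morphism locally of finite type whose diagonal is an open immersion is unramified. -/
theorem locP_unramified_of_diagonal {X Y : Sp S} (hX : IsAlgSpace X) (f : X ⟶ Y)
    (hlft : LocP @LocallyOfFiniteType f)
    (hΔ : RepWith @IsOpenImmersion (pullback.diagonal f)) :
    LocP (@LocallyOfFiniteType ⊓ @FormallyUnramified) f := by
  intro U V a b h ha hb comm
  have hDa : (RepWith (S := S) @IsOpenImmersion).diagonal a :=
    repWith_isOpenImmersion_diagonal_of_unramified (IsAlgSpace.yon_obj U) hX a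
      (locP_mono etale_le_unramified (locP_of_repWith le_rfl ha))
  have hDaf : (RepWith (S := S) @IsOpenImmersion).diagonal (a ≫ f) :=
    (RepWith (S := S) @IsOpenImmersion).diagonal.comp_mem _ _ hDa hΔ
  rw [comm] at hDaf
  have hDh : (RepWith (S := S) @IsOpenImmersion).diagonal ((yon S).map h) :=
    diagonal_of_comp _ _ _ hDaf
  have hoi : IsOpenImmersion (pullback.diagonal h.left) := isOpenImmersion_diagonal_of_repWith h hDh
  have hfu : FormallyUnramified h.left := inferInstance
  exact ⟨hlft a b h ha hb comm, hfu⟩

end Groth.Agent.H3.AlgSpProp
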